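import Mathlib
import Groth.Prelude.Def_Hensel
import Groth.Prelude.Def_EssEt
import Groth.Agent.Lib.Helper8.Hens.Strict
import Groth.Agent.Lib.Helper8.Hens.Nbhd

/-!
# Essentially étale local algebras: basic consequences (helper8)
-/

universe u
open IsLocalRing TensorProduct

namespace Groth.Agent.H8.EssEt

open Groth.Agent.H8.Hens

section Basic

variable {A E : Type u} [CommRing A] [IsLocalRing A] [CommRing E] [Algebra A E]

theorem of_algEquiv {E' : Type u} [CommRing E'] [Algebra A E'] (e : E ≃ₐ[A] E')
    (hE : EGA4loc.IsEssentiallyEtale A E) : EGA4loc.IsEssentiallyEtale A E' := by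
  obtain ⟨C, _, _, q, _, hC, hq, ⟨e'⟩⟩ := hE
  exact ⟨C, _, _, q, _, hC, hq, ⟨e.symm.trans e'⟩⟩

theorem essFiniteType (hE : EGA4loc.IsEssentiallyEtale A E) : Algebra.EssFiniteType A E := by
  obtain ⟨C, _, _, q, _, hC, hq, ⟨e⟩⟩ := hE
  have : Algebra.EssFiniteType A (Localization.AtPrime q) := Algebra.EssFiniteType.comp A C _
  exact (Algebra.EssFiniteType.iff_of_algEquiv e).mpr this

theorem formallyEtale (hE : EGA4loc.IsEssentiallyEtale A E) : Algebra.FormallyEtale A E := by
  obtain ⟨C, _, _, q, _, hC, hq, ⟨e⟩⟩ := hE
  have : Algebra.FormallyEtale C (Localization.AtPrime q) :=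
    Algebra.FormallyEtale.of_isLocalization q.primeCompl
  have : Algebra.FormallyEtale A (Localization.AtPrime q) := Algebra.FormallyEtale.comp A C _
  exact Algebra.FormallyEtale.of_equiv e.symm

theorem formallyUnramified (hE : EGA4loc.IsEssentiallyEtale A E) :
    Algebra.FormallyUnramified A E := by
  have := formallyEtale hE
  infer_instance

theorem flat (hE : EGA4loc.IsEssentiallyEtale A E) : Module.Flat A E := by
  obtain ⟨C, _, _, q, _, hC, hq, ⟨e⟩⟩ := hE
  have : Module.Flat A (Localization.AtPrime q) := Module.Flat.trans A C _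
  exact Module.Flat.of_linearEquiv e.toLinearEquiv

theorem isLocalRing (hE : EGA4loc.IsEssentiallyEtale A E) : IsLocalRing E := by
  obtain ⟨C, _, _, q, _, hC, hq, ⟨e⟩⟩ := hE
  exact e.symm.toRingEquiv.isLocalRing

/-- Two `A`-algebra maps from an essentially étale local `A`-algebra into a local ring which
agree on residue classes are equal. -/
theorem algHom_ext_of_residue (hE : EGA4loc.IsEssentiallyEtale A E)
    {T : Type*} [CommRing T] [IsLocalRing T] [Algebra A T] (u v : E →ₐ[A] T)
    (h : ∀ x, residue T (u x) = residue T (v x)) : u = v := by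
  have := essFiniteType hE
  have := formallyUnramified hE
  apply algHom_ext_of_sub_mem_maximalIdeal
  intro x
  rw [← residue_eq_zero_iff, map_sub, sub_eq_zero]
  exact h x

theorem map_maximalIdeal [IsLocalRing E] [IsLocalHom (algebraMap A E)]
    (hE : EGA4loc.IsEssentiallyEtale A E) :
    (maximalIdeal A).map (algebraMap A E) = maximalIdeal E := by
  have := essFiniteType hE
  have := formallyUnramified hE
  exact Algebra.FormallyUnramified.map_maximalIdeal

/-- Any `A`-algebra map from an essentially étale local `A`-algebra to a local `A`-algebra with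
local structure map is local. -/
theorem isLocalHom_of_algHom [IsLocalRing E] [IsLocalHom (algebraMap A E)]
    (hE : EGA4loc.IsEssentiallyEtale A E)
    {T : Type*} [CommRing T] [IsLocalRing T] [Algebra A T] [IsLocalHom (algebraMap A T)]
    (φ : E →ₐ[A] T) : IsLocalHom φ.toRingHom := by
  have hle : maximalIdeal E ≤ (maximalIdeal T).comap φ.toRingHom := by
    rw [← map_maximalIdeal hE, Ideal.map_le_iff_le_comap, Ideal.comap_comap]
    have : φ.toRingHom.comp (algebraMap A E) = algebraMap A T := φ.comp_algebraMap
    rw [this]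
    have h4 : (maximalIdeal T).comap (algebraMap A T) = maximalIdeal A :=
      ((IsLocalRing.local_hom_TFAE (algebraMap A T)).out 0 4).mp ‹_›
    exact h4.ge
  constructor
  intro x hx
  by_contra hnu
  have h1 : x ∈ maximalIdeal E := (mem_maximalIdeal x).mpr hnu
  have h2 : φ.toRingHom x ∈ maximalIdeal T := hle h1
  exact (mem_maximalIdeal _).mp h2 hx

/-- The local ring of a point of an étale algebra is essentially étale. -/
theorem loc {K : Type u} [Field K] [Algebra A K] [IsLocalHom (algebraMap A K)]
    {C : Type u} [CommRing C] [Algebra A C] [Algebra.Etale A C] (σ : C →ₐ[A] K) :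
    EGA4loc.IsEssentiallyEtale A (Loc σ) := by
  refine ⟨C, _, _, ptIdeal σ, inferInstance, inferInstance, ?_, ⟨AlgEquiv.refl⟩⟩
  ext a
  rw [Ideal.mem_comap, RingHom.mem_ker, AlgHom.commutes, mem_maximalIdeal, mem_nonunits_iff]
  constructor
  · intro h hu
    have := hu.map (algebraMap A K)
    rw [h] at this
    exact not_isUnit_zero this
  · intro h
    by_contra h0
    exact h (IsLocalHom.map_nonunit (f := algebraMap A K) a (isUnit_iff_ne_zero.mpr h0))

end Basic

end Groth.Agent.H8.EssEt
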