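import Mathlib
import Groth.Agent.Lib.Helper8.EssEt.Basic

/-!
# Lifting maps out of essentially étale local algebras into henselian local rings (helper8)
-/

universe u
open IsLocalRing TensorProduct

namespace Groth.Agent.H8.EssEt

open Groth.Agent.H8.Hens

section L3

variable {A B : Type u} [CommRing A] [IsLocalRing A] [CommRing B] [IsLocalRing B] [Algebra A B]
  [IsLocalHom (algebraMap A B)]

/-- An étale local algebra with local structure map is essentially étale. -/
theorem of_etale_local [Algebra.Etale A B] : EGA4loc.IsEssentiallyEtale A B := by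
  refine ⟨B, _, _, maximalIdeal B, inferInstance, inferInstance, ?_, ⟨?_⟩⟩
  · exact ((IsLocalRing.local_hom_TFAE (algebraMap A B)).out 0 4).mp ‹_›
  · have H : (maximalIdeal B).primeCompl ≤ IsUnit.submonoid B := by
      intro x hx
      have : x ∉ maximalIdeal B := hx
      rw [mem_maximalIdeal, mem_nonunits_iff, not_not] at this
      exact this
    exact (IsLocalization.atUnits B (maximalIdeal B).primeCompl
      (S := Localization.AtPrime (maximalIdeal B)) H).restrictScalars A

end L3

section L4

variable {A E : Type u} [CommRing A] [IsLocalRing A] [CommRing E] [IsLocalRing E] [Algebra A E]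
  [IsLocalHom (algebraMap A E)]

/-- **Lifting.** A map of residue fields over `A` from an essentially étale local `A`-algebra to a
henselian local `A`-algebra lifts to an `A`-algebra map. -/
theorem exists_algHom_of_henselian (hE : EGA4loc.IsEssentiallyEtale A E)
    {T : Type u} [CommRing T] [HenselianLocalRing T] [Algebra A T]
    (τ : ResidueField E →+* ResidueField T)
    (hτ : ∀ a : A, τ (residue E (algebraMap A E a)) = residue T (algebraMap A T a)) :
    ∃ g : E →ₐ[A] T, ∀ x, residue T (g x) = τ (residue E x) := by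
  obtain ⟨C, _, _, q, _, hC, hq, ⟨e⟩⟩ := hE
  let ι : C →ₐ[A] E := e.symm.toAlgHom.comp (IsScalarTower.toAlgHom A C (Localization.AtPrime q))
  let σ : C →ₐ[A] ResidueField E := (IsScalarTower.toAlgHom A E (ResidueField E)).comp ι
  let τ' : ResidueField E →ₐ[A] ResidueField T :=
    { τ with commutes' := fun a => hτ a }
  obtain ⟨g₀, hg₀⟩ := Hens.exists_algHom_of_henselian σ τ'
  have hunit : ∀ y : q.primeCompl, IsUnit (g₀ y) := by
    intro y
    by_contra hnu
    have h1 : residue T (g₀ y) = 0 := (residue_eq_zero_iff _).mpr hnu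
    rw [hg₀] at h1
    have h2 : IsUnit (ι (y : C)) := by
      have : IsUnit (algebraMap C (Localization.AtPrime q) (y : C)) :=
        IsLocalization.map_units _ y
      exact this.map e.symm
    have h3 : IsUnit (σ (y : C)) := h2.map (algebraMap E (ResidueField E))
    exact (h3.map τ').ne_zero h1
  let g₁ : Localization.AtPrime q →ₐ[A] T :=
    IsLocalization.liftAlgHom (M := q.primeCompl) (f := g₀) hunit
  refine ⟨g₁.comp e.toAlgHom, ?_⟩
  have key : ((IsScalarTower.toAlgHom A T (ResidueField T)).comp g₁ : _ →ₐ[A] _) =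
      (τ'.comp (IsScalarTower.toAlgHom A E (ResidueField E))).comp e.symm.toAlgHom := by
    apply IsLocalization.algHom_ext q.primeCompl
    ext c
    simp only [AlgHom.coe_comp, Function.comp_apply, IsScalarTower.coe_toAlgHom',
      Algebra.algHom, g₁, IsLocalization.liftAlgHom_apply, IsLocalization.lift_eq]
    exact hg₀ c
  intro x
  have := congrArg (fun w => w (e x)) key
  simp only [AlgHom.coe_comp, Function.comp_apply, IsScalarTower.coe_toAlgHom'] at this
  have h2 : (e.symm.toAlgHom (e x)) = x := e.symm_apply_apply x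
  rw [h2] at this
  exact this

end L4

section L5

variable {A E₁ E₂ : Type u} [CommRing A] [IsLocalRing A]
  [CommRing E₁] [IsLocalRing E₁] [Algebra A E₁] [IsLocalHom (algebraMap A E₁)]
  [CommRing E₂] [IsLocalRing E₂] [Algebra A E₂] [IsLocalHom (algebraMap A E₂)]

/-- Two henselian essentially étale local `A`-algebras with `A`-isomorphic residue fields are
isomorphic, compatibly with the residue isomorphism. -/
theorem exists_algEquiv_of_residue_equiv (h₁ : EGA4loc.IsEssentiallyEtale A E₁)
    (h₂ : EGA4loc.IsEssentiallyEtale A E₂) (H₁ : HenselianLocalRing E₁)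
    (H₂ : HenselianLocalRing E₂) (ρ : ResidueField E₁ ≃+* ResidueField E₂)
    (hρ : ∀ a : A, ρ (residue E₁ (algebraMap A E₁ a)) = residue E₂ (algebraMap A E₂ a)) :
    ∃ g : E₁ ≃ₐ[A] E₂, ∀ x, residue E₂ (g x) = ρ (residue E₁ x) := by
  obtain ⟨φ, hφ⟩ := exists_algHom_of_henselian h₁ (T := E₂) (ρ : _ →+* _) hρ
  obtain ⟨ψ, hψ⟩ := exists_algHom_of_henselian h₂ (T := E₁) (ρ.symm : _ →+* _) (fun a => by
    show ρ.symm _ = _
    rw [RingEquiv.symm_apply_eq, hρ])
  have h12 : ψ.comp φ = AlgHom.id A E₁ := by
    apply algHom_ext_of_residue h₁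
    intro x
    show residue E₁ (ψ (φ x)) = residue E₁ x
    rw [hψ, hφ]
    exact ρ.symm_apply_apply _
  have h21 : φ.comp ψ = AlgHom.id A E₂ := by
    apply algHom_ext_of_residue h₂
    intro x
    show residue E₂ (φ (ψ x)) = residue E₂ x
    rw [hφ, hψ]
    exact ρ.apply_symm_apply _
  exact ⟨AlgEquiv.ofAlgHom φ ψ h21 h12, hφ⟩

end L5

end Groth.Agent.H8.EssEt
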