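import Mathlib
import Groth.Agent.Lib.Helper8.EssEt.Lift
import Groth.Agent.Lib.Helper8.Hens.FiniteEtaleLift

/-!
# `A[X]/(p)` for `p` monic with irreducible separable reduction (helper8)
-/

universe u
open IsLocalRing TensorProduct Polynomial

namespace Groth.Agent.H8.EssEt

open Groth.Agent.H8.Hens

section L2

variable {A : Type u} [CommRing A] [IsLocalRing A] (p : A[X])

theorem adjoinRoot_map_maximalIdeal_isMaximal (hirr : Irreducible (p.map (residue A))) :
    ((maximalIdeal A).map (algebraMap A (AdjoinRoot p))).IsMaximal := by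
  have e := AdjoinRoot.quotAdjoinRootEquivQuotPolynomialQuot (maximalIdeal A) p
  have hmax : (Ideal.span ({p.map (Ideal.Quotient.mk (maximalIdeal A))} :
      Set (A ⧸ maximalIdeal A)[X])).IsMaximal := by
    letI : Field (A ⧸ maximalIdeal A) := Ideal.Quotient.field (maximalIdeal A)
    exact PrincipalIdealRing.isMaximal_of_irreducible hirr
  have hf : IsField ((A ⧸ maximalIdeal A)[X] ⧸
      Ideal.span ({p.map (Ideal.Quotient.mk (maximalIdeal A))} : Set (A ⧸ maximalIdeal A)[X])) :=
    (Ideal.Quotient.maximal_ideal_iff_isField_quotient _).mp hmax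
  have hf' : IsField (AdjoinRoot p ⧸ (maximalIdeal A).map (AdjoinRoot.of p)) :=
    e.toMulEquiv.isField hf
  exact (Ideal.Quotient.maximal_ideal_iff_isField_quotient _).mpr hf'

theorem adjoinRoot_isLocalRing (hp : p.Monic) (hirr : Irreducible (p.map (residue A))) :
    IsLocalRing (AdjoinRoot p) := by
  haveI : Module.Finite A (AdjoinRoot p) := hp.finite_adjoinRoot
  haveI : Algebra.IsIntegral A (AdjoinRoot p) := Algebra.IsIntegral.of_finite A _
  have hI := adjoinRoot_map_maximalIdeal_isMaximal p hirr
  apply IsLocalRing.of_unique_max_ideal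
  refine ⟨_, hI, ?_⟩
  intro M hM
  have h1 : M.comap (algebraMap A (AdjoinRoot p)) = maximalIdeal A := by
    haveI := hM
    have : (M.comap (algebraMap A (AdjoinRoot p))).IsMaximal :=
      Ideal.isMaximal_comap_of_isIntegral_of_isMaximal M
    exact IsLocalRing.eq_maximalIdeal this
  have h2 : (maximalIdeal A).map (algebraMap A (AdjoinRoot p)) ≤ M := by
    rw [Ideal.map_le_iff_le_comap, h1]
  exact (hI.eq_of_le hM.ne_top h2).symm

theorem adjoinRoot_map_maximalIdeal (hp : p.Monic) (hirr : Irreducible (p.map (residue A)))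
    [IsLocalRing (AdjoinRoot p)] :
    (maximalIdeal A).map (algebraMap A (AdjoinRoot p)) = maximalIdeal (AdjoinRoot p) :=
  IsLocalRing.eq_maximalIdeal (adjoinRoot_map_maximalIdeal_isMaximal p hirr)

theorem adjoinRoot_isLocalHom (hp : p.Monic) (hirr : Irreducible (p.map (residue A)))
    [IsLocalRing (AdjoinRoot p)] : IsLocalHom (algebraMap A (AdjoinRoot p)) := by
  constructor
  intro a ha
  by_contra hnu
  have h1 : a ∈ maximalIdeal A := (mem_maximalIdeal a).mpr hnu
  have h2 : algebraMap A (AdjoinRoot p) a ∈ maximalIdeal (AdjoinRoot p) := by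
    rw [← adjoinRoot_map_maximalIdeal p hp hirr]
    exact Ideal.mem_map_of_mem _ h1
  exact (mem_maximalIdeal _).mp h2 ha

theorem adjoinRoot_etale (hp : p.Monic) (hsep : (p.map (residue A)).Separable) :
    Algebra.Etale A (AdjoinRoot p) :=
  etale_adjoinRoot_of_isUnit p hp (isUnit_aeval_root_derivative p hp hsep)

theorem adjoinRoot_isEssentiallyEtale (hp : p.Monic) (hirr : Irreducible (p.map (residue A)))
    (hsep : (p.map (residue A)).Separable)
    [IsLocalRing (AdjoinRoot p)] [IsLocalHom (algebraMap A (AdjoinRoot p))] :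
    EGA4loc.IsEssentiallyEtale A (AdjoinRoot p) := by
  haveI := adjoinRoot_etale p hp hsep
  exact of_etale_local

end L2

section Root

variable {A : Type u} [CommRing A] [IsLocalRing A] (p : A[X])
  {T : Type u} [CommRing T] [HenselianLocalRing T] [Algebra A T]

/-- A simple root of the reduction of `p` in the residue field of a henselian local `A`-algebra
lifts uniquely to a root of `p`. -/
theorem existsUnique_root_of_henselian (hp : p.Monic) (θ : ResidueField T)
    (h1 : aeval θ p = 0) (h2 : aeval θ (derivative p) ≠ 0) :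
    ∃! α : T, aeval α p = 0 ∧ residue T α = θ := by
  have hT : ∀ f : T[X], f.Monic → ∀ a₀ : ResidueField T, aeval a₀ f = 0 →
      aeval a₀ (derivative f) ≠ 0 → ∃ a : T, f.IsRoot a ∧ residue T a = a₀ :=
    ((HenselianLocalRing.TFAE T).out 0 1).mp ‹HenselianLocalRing T›
  obtain ⟨α, hα1, hα2⟩ := hT (p.map (algebraMap A T)) (hp.map _) θ
    (by rw [aeval_map_algebraMap]; exact h1)
    (by rw [derivative_map, aeval_map_algebraMap]; exact h2)
  have hα1' : aeval α p = 0 := by
    rw [IsRoot, eval_map_algebraMap] at hα1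
    exact hα1
  refine ⟨α, ⟨hα1', hα2⟩, ?_⟩
  rintro β ⟨hβ1, hβ2⟩
  have e1 : (p.map (algebraMap A T)).eval β = 0 := by rw [eval_map_algebraMap]; exact hβ1
  have e2 : (p.map (algebraMap A T)).eval α = 0 := hα1
  have e3 : ¬ IsUnit (β - α) := by
    rw [← mem_nonunits_iff, ← mem_maximalIdeal, ← residue_eq_zero_iff, map_sub, hβ2, hα2, sub_self]
  have e4 : IsUnit ((p.map (algebraMap A T)).derivative.eval β) := by
    by_contra hnu
    have h3 : residue T ((p.map (algebraMap A T)).derivative.eval β) = 0 :=
      (residue_eq_zero_iff _).mpr hnu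
    apply h2
    rw [← hβ2]
    rw [derivative_map, eval_map_algebraMap] at h3
    have := Polynomial.aeval_algHom_apply (IsScalarTower.toAlgHom A T (ResidueField T)) β
      (derivative p)
    rw [IsScalarTower.coe_toAlgHom'] at this
    exact this.trans h3
  exact IsLocalRing.eq_of_eval_eq_zero_of_not_isUnit_sub e1 e2 e3 e4

end Root

end Groth.Agent.H8.EssEt
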