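import Mathlib
import Groth.Agent.Lib.Helper8.EssEt.AdjRoot
import Groth.Agent.Lib.Helper8.Hens.QuasiFiniteLocal
import Groth.Agent.Lib.Helper8.Hens.HenselianFinite

/-!
# Essentially étale local algebras over a henselian local ring (helper8)
-/

universe u
open IsLocalRing TensorProduct Polynomial

namespace Groth.Agent.H8.EssEt

open Groth.Agent.H8.Hens

section L6

variable {A E : Type u} [CommRing A] [HenselianLocalRing A] [CommRing E] [Algebra A E]

/-- Over a henselian local ring, essentially étale local algebras are finite. -/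
theorem finite_of_henselian (hE : EGA4loc.IsEssentiallyEtale A E) : Module.Finite A E := by
  obtain ⟨C, _, _, q, _, hC, hq, ⟨e⟩⟩ := hE
  haveI : q.LiesOver (maximalIdeal A) := ⟨hq.symm⟩
  haveI : Algebra.QuasiFiniteAt A q := inferInstance
  haveI := Groth.Agent.H8.S5035.finite_localization_of_quasiFiniteAt A C q
  exact Module.Finite.equiv e.symm.toLinearEquiv

theorem henselian_of_henselian [IsLocalRing E] (hE : EGA4loc.IsEssentiallyEtale A E) :
    HenselianLocalRing E := by
  haveI := finite_of_henselian hE
  exact henselianLocalRing_of_finite A E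

end L6

section L7

variable {A E₁ E₂ : Type u} [CommRing A] [IsLocalRing A]
  [CommRing E₁] [IsLocalRing E₁] [Algebra A E₁] [IsLocalHom (algebraMap A E₁)]
  [CommRing E₂] [IsLocalRing E₂] [Algebra A E₂] [IsLocalHom (algebraMap A E₂)]

/-- A map of henselian essentially étale local `A`-algebras inducing an isomorphism of residue
fields is an isomorphism. -/
theorem bijective_of_residue_bijective (h₁ : EGA4loc.IsEssentiallyEtale A E₁)
    (h₂ : EGA4loc.IsEssentiallyEtale A E₂) (H₁ : HenselianLocalRing E₁)
    (H₂ : HenselianLocalRing E₂) (φ : E₁ →ₐ[A] E₂) [IsLocalHom φ.toRingHom]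
    (hφ : Function.Bijective (ResidueField.map φ.toRingHom)) : Function.Bijective φ := by
  let ρ : ResidueField E₁ ≃+* ResidueField E₂ := RingEquiv.ofBijective _ hφ
  obtain ⟨g, hg⟩ := exists_algEquiv_of_residue_equiv h₁ h₂ H₁ H₂ ρ (fun a => by
    show ResidueField.map φ.toRingHom (residue E₁ (algebraMap A E₁ a)) = _
    rw [ResidueField.map_residue]
    show residue E₂ (φ (algebraMap A E₁ a)) = _
    rw [φ.commutes])
  have : φ = g.toAlgHom := by
    apply algHom_ext_of_residue h₁
    intro x
    show _ = residue E₂ (g x)
    rw [hg]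
    show _ = ResidueField.map φ.toRingHom (residue E₁ x)
    rw [ResidueField.map_residue]
    rfl
  rw [this]
  exact g.bijective

end L7

end Groth.Agent.H8.EssEt
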