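import Mathlib
import Groth.Agent.Lib.Helper8.EssEt.HensBase

/-!
# Essentially étale local algebras come from a henselian subring with the same residue field
-/

universe u
open IsLocalRing TensorProduct Polynomial

namespace Groth.Agent.H8.EssEt

open Groth.Agent.H8.Hens

theorem henselianLocalRing_of_isAdicComplete (A : Type*) [CommRing A] [IsLocalRing A]
    [IsAdicComplete (maximalIdeal A) A] : HenselianLocalRing A where
  is_henselian f hf a₀ h1 h2 := by
    have := (inferInstance : HenselianRing A (maximalIdeal A))
    exact this.is_henselian f hf a₀ h1 (h2.map _)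

section Main

variable (R A E : Type u) [CommRing R] [HenselianLocalRing R]
  [CommRing A] [HenselianLocalRing A] [Algebra R A] [IsLocalHom (algebraMap R A)]
  [CommRing E] [IsLocalRing E] [Algebra A E] [IsLocalHom (algebraMap A E)]

theorem exists_finite_etale_tensor
    (hres : Function.Bijective (ResidueField.map (algebraMap R A)))
    (hE : EGA4loc.IsEssentiallyEtale A E) :
    ∃ (S : Type u) (_ : CommRing S) (_ : IsLocalRing S) (_ : Algebra R S),
      Module.Finite R S ∧ Algebra.Etale R S ∧ Nonempty (E ≃ₐ[A] A ⊗[R] S) := by
  classical
  haveI := essFiniteType hE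
  haveI := formallyUnramified hE
  haveI hfin : Module.Finite (ResidueField A) (ResidueField E) := inferInstance
  haveI hsep : Algebra.IsSeparable (ResidueField A) (ResidueField E) := inferInstance
  obtain ⟨θ, hθ⟩ := Field.exists_primitive_element (ResidueField A) (ResidueField E)
  have hint : IsIntegral (ResidueField A) θ := Algebra.IsIntegral.isIntegral θ
  set pA : (ResidueField A)[X] := minpoly (ResidueField A) θ with hpA
  have hpA_monic : pA.Monic := minpoly.monic hint
  have hpA_irr : Irreducible pA := minpoly.irreducible hint
  have hpA_sep : pA.Separable := Algebra.IsSeparable.isSeparable (ResidueField A) θ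
  let ι : ResidueField R ≃+* ResidueField A := RingEquiv.ofBijective _ hres
  set pR : (ResidueField R)[X] := pA.map (ι.symm : ResidueField A →+* ResidueField R) with hpR
  have hpR_map : pR.map (ResidueField.map (algebraMap R A)) = pA := by
    rw [hpR, Polynomial.map_map]
    have : (ResidueField.map (algebraMap R A)).comp (ι.symm : ResidueField A →+* ResidueField R) =
        RingHom.id _ := by
      ext x
      exact ι.apply_symm_apply x
    rw [this, Polynomial.map_id]
  have hpR_monic : pR.Monic := hpA_monic.map _
  obtain ⟨p, hp_map, -, hp_monic⟩ := Polynomial.lifts_and_degree_eq_and_monic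
    (Polynomial.map_surjective (residue R) residue_surjective pR |>.imp fun _ h => h :
      pR ∈ Polynomial.lifts (residue R)) hpR_monic
  have hp_irr : Irreducible (p.map (residue R)) := by
    rw [hp_map]
    apply Polynomial.Monic.irreducible_of_irreducible_map (ResidueField.map (algebraMap R A)) pR
      hpR_monic
    rw [hpR_map]
    exact hpA_irr
  have hp_sep : (p.map (residue R)).Separable := by
    rw [hp_map, ← Polynomial.separable_map (ResidueField.map (algebraMap R A)), hpR_map]
    exact hpA_sep
  -- the algebra over `R`
  haveI hlocS : IsLocalRing (AdjoinRoot p) := adjoinRoot_isLocalRing p hp_monic hp_irr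
  haveI : Module.Finite R (AdjoinRoot p) := hp_monic.finite_adjoinRoot
  haveI hetS : Algebra.Etale R (AdjoinRoot p) := adjoinRoot_etale p hp_monic hp_sep
  refine ⟨AdjoinRoot p, inferInstance, hlocS, inferInstance, inferInstance, hetS, ?_⟩
  -- the base change
  set q : A[X] := p.map (algebraMap R A) with hq
  have hq_monic : q.Monic := hp_monic.map _
  have hq_map : q.map (residue A) = pA := by
    rw [hq, Polynomial.map_map]
    have : (residue A).comp (algebraMap R A) =
        (ResidueField.map (algebraMap R A)).comp (residue R) := by
      ext x
      simp [ResidueField.map_residue]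
    rw [this, ← Polynomial.map_map, hp_map, hpR_map]
  have hq_irr : Irreducible (q.map (residue A)) := hq_map ▸ hpA_irr
  have hq_sep : (q.map (residue A)).Separable := hq_map ▸ hpA_sep
  haveI hlocB : IsLocalRing (AdjoinRoot q) := adjoinRoot_isLocalRing q hq_monic hq_irr
  haveI hlhB : IsLocalHom (algebraMap A (AdjoinRoot q)) := adjoinRoot_isLocalHom q hq_monic hq_irr
  have hB : EGA4loc.IsEssentiallyEtale A (AdjoinRoot q) :=
    adjoinRoot_isEssentiallyEtale q hq_monic hq_irr hq_sep
  have HE : HenselianLocalRing E := henselian_of_henselian hE
  have HB : HenselianLocalRing (AdjoinRoot q) := henselian_of_henselian hB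
  -- the root in `E`
  have haev : ∀ f : A[X], aeval θ f = aeval θ (f.map (residue A)) := by
    intro f
    have : residue A = algebraMap A (ResidueField A) := rfl
    rw [this, aeval_map_algebraMap]
  have h1 : aeval θ q = 0 := by
    rw [haev, hq_map]
    exact minpoly.aeval _ _
  have h2 : aeval θ (derivative q) ≠ 0 := by
    rw [haev, ← derivative_map, hq_map]
    exact hpA_sep.aeval_derivative_ne_zero (minpoly.aeval _ _)
  obtain ⟨α, ⟨hα1, hα2⟩, -⟩ := existsUnique_root_of_henselian (T := E) q hq_monic θ h1 h2
  let φ : AdjoinRoot q →ₐ[A] E := AdjoinRoot.liftAlgHom q (Algebra.ofId A E) α (by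
    rw [← hα1]; rfl)
  have hφroot : φ (AdjoinRoot.root q) = α := by
    simp [φ]
  haveI hφloc : IsLocalHom φ.toRingHom := isLocalHom_of_algHom hB φ
  have hbij : Function.Bijective (ResidueField.map φ.toRingHom) := by
    refine ⟨(ResidueField.map φ.toRingHom).injective, ?_⟩
    let ψ : ResidueField (AdjoinRoot q) →ₐ[ResidueField A] ResidueField E :=
      { ResidueField.map φ.toRingHom with
        commutes' := fun x => by
          obtain ⟨a, rfl⟩ := residue_surjective x
          show ResidueField.map φ.toRingHom (ResidueField.map (algebraMap A (AdjoinRoot q))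
            (residue A a)) = ResidueField.map (algebraMap A E) (residue A a)
          simp only [ResidueField.map_residue]
          show residue E (φ (algebraMap A (AdjoinRoot q) a)) = _
          rw [φ.commutes] }
    have hθmem : θ ∈ ψ.fieldRange := by
      refine ⟨residue _ (AdjoinRoot.root q), ?_⟩
      show ResidueField.map φ.toRingHom (residue _ (AdjoinRoot.root q)) = θ
      rw [ResidueField.map_residue]
      show residue E (φ (AdjoinRoot.root q)) = θ
      rw [hφroot, hα2]
    have htop : ψ.fieldRange = ⊤ := by
      rw [eq_top_iff, ← hθ, IntermediateField.adjoin_le_iff]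
      intro x hx
      rw [Set.mem_singleton_iff] at hx
      rw [hx]
      exact hθmem
    intro y
    have : y ∈ ψ.fieldRange := by rw [htop]; trivial
    obtain ⟨x, hx⟩ := this
    exact ⟨x, hx⟩
  have hφbij := bijective_of_residue_bijective hB hE HB HE φ hbij
  exact ⟨(AlgEquiv.ofBijective φ hφbij).symm.trans (adjoinRootBaseChange A p).symm⟩

end Main

end Groth.Agent.H8.EssEt
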