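import Mathlib

/-!
# Total rings of fractions of reduced rings with finitely many minimal primes (helper8)
-/

open scoped nonZeroDivisors

namespace Groth.Agent.H8.EssEt

/-- A reduced ring with finitely many primes, all of them maximal, is Artinian. -/
theorem isArtinianRing_of_isReduced_of_forall_isMaximal (R : Type*) [CommRing R] [IsReduced R]
    [Finite (PrimeSpectrum R)] (hmax : ∀ p : Ideal R, p.IsPrime → p.IsMaximal) :
    IsArtinianRing R := by
  classical
  haveI : Finite (MaximalSpectrum R) :=
    Finite.of_injective MaximalSpectrum.toPrimeSpectrum MaximalSpectrum.toPrimeSpectrum_injective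
  have hinf : (⨅ i : MaximalSpectrum R, i.asIdeal) = ⊥ := by
    have h0 : (⊥ : Ideal R) = sInf { J : Ideal R | J.IsPrime } := by
      rw [← nilradical_eq_sInf, nilradical_eq_zero, Ideal.zero_eq_bot]
    rw [eq_bot_iff, h0]
    refine le_sInf fun J hJ => ?_
    exact iInf_le_of_le ⟨J, hmax J hJ⟩ le_rfl
  let e₁ : R ≃+* R ⧸ (⨅ i : MaximalSpectrum R, i.asIdeal) :=
    (RingEquiv.quotientBot R).symm.trans (Ideal.quotEquivOfEq hinf.symm)
  let e₂ := Ideal.quotientInfRingEquivPiQuotient (fun i : MaximalSpectrum R => i.asIdeal)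
    (fun i j hij => MaximalSpectrum.isCoprime_of_ne hij)
  haveI : ∀ i : MaximalSpectrum R, IsArtinianRing (R ⧸ i.asIdeal) := fun i => by
    letI := Ideal.Quotient.field i.asIdeal
    infer_instance
  exact (e₁.trans e₂).symm.isArtinianRing

section

variable (A : Type*) [CommRing A] [IsReduced A]

/-- In a reduced ring, a zero divisor lies in some minimal prime. -/
theorem exists_mem_minimalPrimes_of_not_mem_nonZeroDivisors {x : A} (hx : x ∉ A⁰) :
    ∃ q ∈ minimalPrimes A, x ∈ q := by
  rw [mem_nonZeroDivisors_iff_right] at hx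
  push Not at hx
  obtain ⟨y, hxy, hy⟩ := hx
  have hy' : y ∉ sInf (minimalPrimes A) := by
    have h0 : sInf (minimalPrimes A) = (⊥ : Ideal A) := by
      rw [minimalPrimes, Ideal.sInf_minimalPrimes]
      exact nilradical_eq_zero A
    rw [h0]
    exact hy
  rw [Submodule.mem_sInf] at hy'
  push Not at hy'
  obtain ⟨q, hq, hyq⟩ := hy'
  refine ⟨q, hq, ?_⟩
  have hq' : Ideal.IsPrime q := hq.1.1
  have : x * y ∈ q := by rw [mul_comm, hxy]; exact Submodule.zero_mem q
  exact (hq'.mem_or_mem this).resolve_right hyq

/-- In a reduced ring with finitely many minimal primes, a prime consisting of zero divisors is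
a minimal prime. -/
theorem mem_minimalPrimes_of_disjoint (hmin : (minimalPrimes A).Finite) (p : Ideal A)
    [hp : p.IsPrime] (hdisj : Disjoint (A⁰ : Set A) (p : Set A)) : p ∈ minimalPrimes A := by
  classical
  have hsub : (p : Set A) ⊆ ⋃ q ∈ (hmin.toFinset : Set (Ideal A)), (q : Set A) := by
    intro x hx
    have hx' : x ∉ A⁰ := fun h => Set.disjoint_left.mp hdisj h hx
    obtain ⟨q, hq, hxq⟩ := exists_mem_minimalPrimes_of_not_mem_nonZeroDivisors A hx'
    simp only [Set.mem_iUnion, Finset.mem_coe, Set.Finite.mem_toFinset]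
    exact ⟨q, hq, hxq⟩
  have := (Ideal.subset_union_prime (R := A) (s := hmin.toFinset) (f := fun q => q) ⊥ ⊥
    (fun q hq _ _ => ((Set.Finite.mem_toFinset hmin).mp hq).1.1)).mp hsub
  obtain ⟨q, hq, hpq⟩ := this
  have hq' : q ∈ minimalPrimes A := (Set.Finite.mem_toFinset hmin).mp hq
  have : q ≤ p := hq'.2 ⟨hp, bot_le⟩ hpq
  rw [le_antisymm hpq this]
  exact hq'

variable (K : Type*) [CommRing K] [Algebra A K] [IsFractionRing A K]

include A in
/-- The total ring of fractions of a reduced ring with finitely many minimal primes is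
Artinian. -/
theorem isArtinianRing_of_isFractionRing (hmin : (minimalPrimes A).Finite) :
    IsArtinianRing K := by
  classical
  haveI : IsReduced K :=
    isReduced_of_injective (IsLocalization.algEquiv (nonZeroDivisors A) K
      (Localization (nonZeroDivisors A))) (AlgEquiv.injective _)
  have hcomap : ∀ P : Ideal K, P.IsPrime → P.comap (algebraMap A K) ∈ minimalPrimes A := by
    intro P hP
    have h := (IsLocalization.isPrime_iff_isPrime_disjoint (nonZeroDivisors A) K P).mp hP
    haveI := h.1
    exact mem_minimalPrimes_of_disjoint A hmin _ h.2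
  have hinj : ∀ P P' : Ideal K, P.comap (algebraMap A K) = P'.comap (algebraMap A K) → P = P' := by
    intro P P' h
    rw [← IsLocalization.map_under (nonZeroDivisors A) K P,
      ← IsLocalization.map_under (nonZeroDivisors A) K P']
    exact congrArg _ h
  haveI : Finite (PrimeSpectrum K) := by
    haveI : Finite (minimalPrimes A) := hmin.to_subtype
    let φ : PrimeSpectrum K → minimalPrimes A := fun P => ⟨_, hcomap P.asIdeal P.isPrime⟩
    refine Finite.of_injective φ ?_
    intro P P' h
    ext1
    exact hinj _ _ (congrArg Subtype.val h)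
  apply isArtinianRing_of_isReduced_of_forall_isMaximal
  intro P hP
  obtain ⟨M, hM, hPM⟩ := Ideal.exists_le_maximal P hP.ne_top
  have h1 := hcomap P hP
  have h2 := hcomap M hM.isPrime
  have h3 : P.comap (algebraMap A K) ≤ M.comap (algebraMap A K) := Ideal.comap_mono hPM
  have h4 : M.comap (algebraMap A K) ≤ P.comap (algebraMap A K) := h2.2 h1.1 h3
  rw [hinj P M (le_antisymm h3 h4)]
  exact hM

end

end Groth.Agent.H8.EssEt
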