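import Mathlib
import Groth.Agent.Lib.Helper8.EssEt.TotFrac
import Groth.Agent.Lib.Helper8.EssEt.Basic

/-!
# The total ring of fractions of an essentially étale local algebra (helper8)
-/

universe u
open scoped nonZeroDivisors TensorProduct

namespace Groth.Agent.H8.EssEt

/-- A finite module over a localization is "finite up to denominators" over the base. -/
theorem exists_finset_span_of_finite_localization {A : Type*} [CommRing A] (M : Submonoid A)
    (K : Type*) [CommRing K] [Algebra A K] [IsLocalization M K]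
    (W : Type*) [AddCommGroup W] [Module K W] [Module A W] [IsScalarTower A K W]
    [Module.Finite K W] :
    ∃ t : Finset W, ∀ x : W, ∃ a ∈ M, a • x ∈ Submodule.span A (t : Set W) := by
  classical
  obtain ⟨t, ht⟩ := (Module.finite_def (R := K) (M := W)).mp inferInstance
  refine ⟨t, fun x => ?_⟩
  have hx : x ∈ Submodule.span K (t : Set W) := by rw [ht]; trivial
  induction hx using Submodule.span_induction with
  | mem y hy => exact ⟨1, M.one_mem, by rw [one_smul]; exact Submodule.subset_span hy⟩
  | zero => exact ⟨1, M.one_mem, by rw [smul_zero]; exact Submodule.zero_mem _⟩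
  | add y z _ _ hy hz =>
    obtain ⟨a, ha, hay⟩ := hy
    obtain ⟨b, hb, hbz⟩ := hz
    refine ⟨a * b, M.mul_mem ha hb, ?_⟩
    rw [smul_add]
    refine Submodule.add_mem _ ?_ ?_
    · rw [mul_comm, mul_smul]
      exact Submodule.smul_mem _ _ hay
    · rw [mul_smul]
      exact Submodule.smul_mem _ _ hbz
  | smul k y _ hy =>
    obtain ⟨a, ha, hay⟩ := hy
    obtain ⟨⟨c, s⟩, hcs⟩ := IsLocalization.surj M k
    refine ⟨s * a, M.mul_mem s.2 ha, ?_⟩
    have : ((s : A) * a) • (k • y) = c • (a • y) := by
      rw [mul_smul, smul_comm a k y, ← algebraMap_smul K (s : A), smul_smul, mul_comm,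
        hcs, algebraMap_smul]
    rw [this]
    exact Submodule.smul_mem _ _ hay

section Gen

attribute [local instance] Algebra.TensorProduct.rightAlgebra

variable (A E : Type u) [CommRing A] [IsReduced A] [CommRing E] [Algebra A E]
  [Module.Flat A E] [Algebra.EssFiniteType A E] [Algebra.FormallyUnramified A E]

theorem finite_fractionRing_tensor (hmin : (minimalPrimes A).Finite) :
    Module.Finite (FractionRing A) (FractionRing A ⊗[A] E) := by
  haveI := isArtinianRing_of_isFractionRing A (FractionRing A) hmin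
  exact Module.Finite.of_quasiFinite

omit [IsReduced A] [Algebra.EssFiniteType A E] [Algebra.FormallyUnramified A E] in
theorem algebraMapSubmonoid_le : Algebra.algebraMapSubmonoid E A⁰ ≤ E⁰ := by
  rintro _ ⟨a, ha, rfl⟩
  have h := Module.Flat.isSMulRegular_of_nonZeroDivisors (M := E) ha
  rw [mem_nonZeroDivisors_iff_right]
  intro x hx
  apply h
  show a • x = a • (0 : E)
  rw [smul_zero, Algebra.smul_def, mul_comm]
  exact hx

theorem exists_dvd_of_mem_nonZeroDivisors (hmin : (minimalPrimes A).Finite) (e : E)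
    (he : e ∈ E⁰) : ∃ m ∈ Algebra.algebraMapSubmonoid E A⁰, e ∣ m := by
  haveI := isArtinianRing_of_isFractionRing A (FractionRing A) hmin
  haveI := finite_fractionRing_tensor A E hmin
  haveI : IsArtinianRing (FractionRing A ⊗[A] E) :=
    IsArtinianRing.of_finite (FractionRing A) (FractionRing A ⊗[A] E)
  have h1 : algebraMap E (FractionRing A ⊗[A] E) e ∈ (FractionRing A ⊗[A] E)⁰ :=
    IsLocalization.nonZeroDivisors_le_comap (Algebra.algebraMapSubmonoid E A⁰)
      (FractionRing A ⊗[A] E) he
  obtain ⟨w, hw⟩ := (IsArtinianRing.isUnit_of_mem_nonZeroDivisors h1).exists_right_inv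
  obtain ⟨⟨e', m⟩, hm⟩ := IsLocalization.surj (Algebra.algebraMapSubmonoid E A⁰) w
  have h2 : algebraMap E (FractionRing A ⊗[A] E) (e * e') =
      algebraMap E (FractionRing A ⊗[A] E) (m : E) := by
    rw [map_mul, ← hm, ← mul_assoc, hw, one_mul]
  obtain ⟨c, hc⟩ := (IsLocalization.eq_iff_exists (Algebra.algebraMapSubmonoid E A⁰) _).mp h2
  refine ⟨c * m, (Algebra.algebraMapSubmonoid E A⁰).mul_mem c.2 m.2, ⟨c * e', ?_⟩⟩
  rw [← hc]
  ring

theorem isLocalization_fractionRing (hmin : (minimalPrimes A).Finite) :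
    IsLocalization (Algebra.algebraMapSubmonoid E A⁰) (FractionRing E) :=
  (IsLocalization.iff_of_le_of_exists_dvd (Algebra.algebraMapSubmonoid E A⁰) E⁰
    (algebraMapSubmonoid_le A E)
    (fun e he => exists_dvd_of_mem_nonZeroDivisors A E hmin e he)).mpr inferInstance

theorem exists_finset_span_fractionRing (hmin : (minimalPrimes A).Finite) :
    ∃ t : Finset (FractionRing E), ∀ x : FractionRing E, ∃ a ∈ A⁰,
      algebraMap A (FractionRing E) a * x ∈ Submodule.span A (t : Set (FractionRing E)) := by
  classical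
  haveI := finite_fractionRing_tensor A E hmin
  haveI := isLocalization_fractionRing A E hmin
  obtain ⟨t', ht'⟩ := exists_finset_span_of_finite_localization A⁰ (FractionRing A)
    (FractionRing A ⊗[A] E)
  let ψ : (FractionRing A ⊗[A] E) ≃ₐ[E] FractionRing E :=
    IsLocalization.algEquiv (Algebra.algebraMapSubmonoid E A⁰) _ _
  let ψA : (FractionRing A ⊗[A] E) ≃ₗ[A] FractionRing E := (ψ.restrictScalars A).toLinearEquiv
  refine ⟨t'.image ψA, fun x => ?_⟩
  obtain ⟨a, ha, hax⟩ := ht' (ψA.symm x)
  refine ⟨a, ha, ?_⟩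
  have h1 : ψA (a • ψA.symm x) ∈ (Submodule.span A (t' : Set (FractionRing A ⊗[A] E))).map
      (ψA : (FractionRing A ⊗[A] E) →ₗ[A] FractionRing E) := Submodule.mem_map_of_mem hax
  rw [Submodule.map_span, map_smul, LinearEquiv.apply_symm_apply, Algebra.smul_def] at h1
  rw [Finset.coe_image]
  exact h1

end Gen

end Groth.Agent.H8.EssEt
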