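import Mathlib
import Groth.Agent.Lib.Helper8.EssEt.TotFracE

/-!
# A dichotomy for elements of finite algebras over Artinian rings (helper8)
-/

universe u
open scoped nonZeroDivisors TensorProduct
open Polynomial

namespace Groth.Agent.H8.EssEt

/-- In a module-finite algebra `W` over an Artinian ring `R`, every element `w` is either
invertible with inverse a polynomial in `w`, or killed by a non-zero polynomial in `w`. -/
theorem dichotomy_of_artinian {R W : Type*} [CommRing R] [IsArtinianRing R] [CommRing W]
    [Algebra R W] [Module.Finite R W] (w : W) :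
    (∃ Q : R[X], w * aeval w Q = 1) ∨ (∃ Q : R[X], aeval w Q ≠ 0 ∧ w * aeval w Q = 0) := by
  classical
  let B : Subalgebra R W := Algebra.adjoin R {w}
  haveI : IsNoetherian R W := isNoetherian_of_isNoetherianRing_of_finite R W
  haveI : Module.Finite R B := Module.Finite.of_injective B.val.toLinearMap Subtype.val_injective
  haveI : IsArtinianRing B := IsArtinianRing.of_finite R B
  let wB : B := ⟨w, Algebra.subset_adjoin rfl⟩
  have hB : ∀ b : B, ∃ Q : R[X], aeval w Q = (b : W) := by
    intro b
    have hb : (b : W) ∈ Algebra.adjoin R {w} := b.2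
    rw [Algebra.adjoin_singleton_eq_range_aeval] at hb
    exact hb
  by_cases h : wB ∈ B⁰
  · left
    obtain ⟨b, hb⟩ := (IsArtinianRing.isUnit_of_mem_nonZeroDivisors h).exists_right_inv
    obtain ⟨Q, hQ⟩ := hB b
    refine ⟨Q, ?_⟩
    rw [hQ]
    exact congrArg Subtype.val hb
  · right
    rw [mem_nonZeroDivisors_iff_right] at h
    push Not at h
    obtain ⟨b, hb, hb0⟩ := h
    obtain ⟨Q, hQ⟩ := hB b
    refine ⟨Q, ?_, ?_⟩
    · rw [hQ]
      intro h0
      exact hb0 (Subtype.ext h0)
    · rw [hQ, mul_comm]
      exact congrArg Subtype.val hb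

section Gen

attribute [local instance] Algebra.TensorProduct.rightAlgebra

variable (A E : Type u) [CommRing A] [IsReduced A] [CommRing E] [Algebra A E]
  [Module.Flat A E] [Algebra.EssFiniteType A E] [Algebra.FormallyUnramified A E]

omit [IsReduced A] [Algebra.EssFiniteType A E] [Algebra.FormallyUnramified A E] in
theorem injective_algebraMap_tensor :
    Function.Injective (algebraMap E (FractionRing A ⊗[A] E)) :=
  IsLocalization.injective (FractionRing A ⊗[A] E) (algebraMapSubmonoid_le A E)

omit [IsReduced A] [Module.Flat A E] [Algebra.EssFiniteType A E]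
  [Algebra.FormallyUnramified A E] in
/-- Clearing denominators in a polynomial expression. -/
theorem exists_smul_aeval_tensor (e : E) (Q : (FractionRing A)[X]) :
    ∃ a ∈ A⁰, ∃ P : A[X], (algebraMap A (FractionRing A) a) • aeval ((1 : FractionRing A) ⊗ₜ[A] e) Q =
      (1 : FractionRing A) ⊗ₜ[A] (aeval e P) := by
  obtain ⟨b, hbM, hb⟩ := IsLocalization.integerNormalization_spec A⁰ Q
  refine ⟨b, hbM, IsLocalization.integerNormalization A⁰ Q, ?_⟩
  have h1 : aeval ((1 : FractionRing A) ⊗ₜ[A] e)
      ((IsLocalization.integerNormalization A⁰ Q).map (algebraMap A (FractionRing A))) =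
      (1 : FractionRing A) ⊗ₜ[A] (aeval e (IsLocalization.integerNormalization A⁰ Q)) := by
    rw [aeval_map_algebraMap]
    have : (1 : FractionRing A) ⊗ₜ[A] e =
        (Algebra.TensorProduct.includeRight : E →ₐ[A] FractionRing A ⊗[A] E) e := rfl
    rw [this, aeval_algHom_apply]
    rfl
  rw [← h1, hb, ← algebraMap_smul (FractionRing A) (b : A) Q, map_smul]

/-- Dichotomy for elements of a flat, essentially finite type, formally unramified algebra over
a reduced ring with finitely many minimal primes. -/
theorem dichotomy (hmin : (minimalPrimes A).Finite) (e : E) :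
    (∃ P : A[X], ∃ a ∈ A⁰, e * aeval e P = algebraMap A E a) ∨
      (∃ P : A[X], aeval e P ≠ 0 ∧ e * aeval e P = 0) := by
  haveI := isArtinianRing_of_isFractionRing A (FractionRing A) hmin
  haveI := finite_fractionRing_tensor A E hmin
  have hinj := injective_algebraMap_tensor A E
  have hmap : ∀ x : E, algebraMap E (FractionRing A ⊗[A] E) x = (1 : FractionRing A) ⊗ₜ[A] x :=
    fun x => rfl
  rcases dichotomy_of_artinian (R := FractionRing A) ((1 : FractionRing A) ⊗ₜ[A] e) with
    ⟨Q, hQ⟩ | ⟨Q, hQ0, hQ⟩
  · left
    obtain ⟨a, ha, P, hP⟩ := exists_smul_aeval_tensor A E e Q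
    refine ⟨P, a, ha, ?_⟩
    apply hinj
    rw [map_mul, hmap, hmap, ← hP, mul_smul_comm, hQ, ← IsScalarTower.algebraMap_apply A E,
      IsScalarTower.algebraMap_apply A (FractionRing A) (FractionRing A ⊗[A] E),
      Algebra.algebraMap_eq_smul_one (algebraMap A (FractionRing A) a)]
  · right
    obtain ⟨a, ha, P, hP⟩ := exists_smul_aeval_tensor A E e Q
    refine ⟨P, ?_, ?_⟩
    · intro h0
      rw [h0, TensorProduct.tmul_zero] at hP
      have hu : IsUnit (algebraMap A (FractionRing A) a) :=
        IsLocalization.map_units (FractionRing A) ⟨a, ha⟩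
      exact hQ0 ((hu.smul_eq_zero).mp hP)
    · apply hinj
      rw [map_mul, hmap, hmap, ← hP, mul_smul_comm, hQ, smul_zero, map_zero]

end Gen

end Groth.Agent.H8.EssEt
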