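import Mathlib
import Groth.Agent.Lib.Helper8.EssEt.Basic

/-!
# The strict henselization of `A` is a strict henselization of every essentially étale local
`A`-algebra mapping to it (helper8)
-/

universe u
open IsLocalRing TensorProduct

namespace Groth.Agent.H8.EssEt

open Groth.Agent.H8.Hens

section F2

variable (A S E : Type u) [CommRing A] [IsLocalRing A]
  [CommRing S] [IsLocalRing S] [Algebra A S] [IsLocalHom (algebraMap A S)]
  [hS : Hensel.IsStrictHenselization A S]
  [CommRing E] [IsLocalRing E] [Algebra A E] [IsLocalHom (algebraMap A E)]
  [Algebra E S] [IsScalarTower A E S]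

omit hS in
theorem isLocalHom_algebraMap (hE : EGA4loc.IsEssentiallyEtale A E) :
    IsLocalHom (algebraMap E S) := by
  have := isLocalHom_of_algHom hE (IsScalarTower.toAlgHom A E S)
  exact this

include hS in
/-- `S = A^{sh}` is a strict henselization of any essentially étale local `A`-algebra `E` with
an `A`-algebra map `E → S`. -/
theorem isStrictHenselization_of_essEtale (hE : EGA4loc.IsEssentiallyEtale A E)
    [IsLocalHom (algebraMap E S)] : Hensel.IsStrictHenselization E S where
  henselian := hS.henselian
  isSepClosure := by
    have h1 : IsSepClosure (ResidueField A) (ResidueField S) := hS.isSepClosure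
    have : IsScalarTower (ResidueField A) (ResidueField E) (ResidueField S) :=
      IsScalarTower.of_algebraMap_eq' (by
        ext x
        obtain ⟨a, rfl⟩ := residue_surjective x
        simp only [RingHom.comp_apply, ResidueField.algebraMap_eq, ResidueField.map_residue]
        rw [← IsScalarTower.algebraMap_apply])
    refine ⟨h1.sep_closed, ?_⟩
    have := h1.separable
    exact Algebra.isSeparable_tower_top_of_isSeparable (ResidueField A) (ResidueField E)
      (ResidueField S)
  universal T _ _ f _ τ hτ := by
    have : IsLocalHom (f.comp (algebraMap A E)) := RingHom.isLocalHom_comp _ _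
    have hτ' : τ.comp (ResidueField.map (algebraMap A S)) =
        ResidueField.map (f.comp (algebraMap A E)) := by
      ext x
      obtain ⟨a, rfl⟩ := residue_surjective x
      simp only [RingHom.comp_apply, ResidueField.map_residue]
      have h1 := congrArg (fun w => w (residue E (algebraMap A E a))) hτ
      simp only [RingHom.comp_apply, ResidueField.map_residue] at h1
      rw [← h1, ← IsScalarTower.algebraMap_apply]
    obtain ⟨g, ⟨hg1, hg2⟩, hguniq⟩ := hS.universal T (f.comp (algebraMap A E)) τ hτ'
    letI : Algebra A T := (f.comp (algebraMap A E)).toAlgebra
    let u : E →ₐ[A] T :=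
      { g.comp (algebraMap E S) with
        commutes' := fun a => by
          show g (algebraMap E S (algebraMap A E a)) = f (algebraMap A E a)
          rw [← IsScalarTower.algebraMap_apply]
          exact congrArg (fun w => w a) hg1 }
    let v : E →ₐ[A] T := { f with commutes' := fun a => rfl }
    have huv : u = v := by
      apply algHom_ext_of_residue hE
      intro x
      show residue T (g (algebraMap E S x)) = residue T (f x)
      rw [hg2]
      have h1 := congrArg (fun w => w (residue E x)) hτ
      simp only [RingHom.comp_apply, ResidueField.map_residue] at h1
      exact h1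
    refine ⟨g, ⟨?_, hg2⟩, ?_⟩
    · ext x
      exact congrArg (fun w => w x) huv
    · rintro g' ⟨hg'1, hg'2⟩
      apply hguniq
      refine ⟨?_, hg'2⟩
      ext a
      simp only [RingHom.comp_apply]
      rw [IsScalarTower.algebraMap_apply A E S]
      exact congrArg (fun w => w (algebraMap A E a)) hg'1

include hS in
theorem faithfullyFlat_of_essEtale (hE : EGA4loc.IsEssentiallyEtale A E) :
    Module.FaithfullyFlat E S := by
  have := isLocalHom_algebraMap A S E hE
  have := isStrictHenselization_of_essEtale A S E hE
  exact faithfullyFlat_of_isStrictHenselization (R := E) S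

include hS in
theorem injective_of_essEtale (hE : EGA4loc.IsEssentiallyEtale A E) :
    Function.Injective (algebraMap E S) := by
  have := faithfullyFlat_of_essEtale A S E hE
  exact FaithfulSMul.algebraMap_injective E S

end F2

end Groth.Agent.H8.EssEt
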