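import Mathlib
import Groth.Agent.Lib.Helper8.EssEt.F2

/-!
# The strict henselization is a directed union of essentially étale local subalgebras (helper8)
-/

universe u
open IsLocalRing TensorProduct

namespace Groth.Agent.H8.EssEt

open Groth.Agent.H8.Hens

section F1

variable (A S : Type u) [CommRing A] [IsLocalRing A]
  [CommRing S] [IsLocalRing S] [Algebra A S] [IsLocalHom (algebraMap A S)]
  [hS : Hensel.IsStrictHenselization A S]

omit hS in
/-- The range of a local injective map from a local ring is a local subring with local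
inclusion. -/
theorem range_isLocal {E : Type u} [CommRing E] [IsLocalRing E] [Algebra A E]
    (φ : E →ₐ[A] S) [IsLocalHom φ.toRingHom] (hinj : Function.Injective φ) :
    ∃ _ : IsLocalRing φ.range, IsLocalHom (algebraMap φ.range S) ∧
      Nonempty (E ≃ₐ[A] φ.range) := by
  let e : E ≃ₐ[A] φ.range := AlgEquiv.ofInjective φ hinj
  have hloc : IsLocalRing φ.range := e.toRingEquiv.isLocalRing
  refine ⟨hloc, ⟨?_⟩, ⟨e⟩⟩
  intro x hx
  obtain ⟨y, hy⟩ : ∃ y, e y = x := e.surjective x
  have h1 : φ y = algebraMap φ.range S x := by rw [← hy]; rfl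
  rw [← h1] at hx
  have h2 : IsUnit y := IsLocalHom.map_nonunit (f := φ.toRingHom) y hx
  rw [← hy]
  exact h2.map e

include hS in
/-- **F1**: every finite subset of `A^{sh}` lies in an essentially étale local `A`-subalgebra
dominated by `A^{sh}`. -/
theorem exists_essEtale_subalgebra (s : Finset S) :
    ∃ E : Subalgebra A S, (s : Set S) ⊆ (E : Set S) ∧
      ∃ _ : IsLocalRing E, IsLocalHom (algebraMap E S) ∧ EGA4loc.IsEssentiallyEtale A E := by
  classical
  let e := algEquivStrict (R := A) S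
  obtain ⟨l, x, hx⟩ : ∃ (l : ℕ) (x : Fin l → StrictHenselization A),
      ∀ z ∈ s, ∃ m, e (x m) = z := by
    refine ⟨s.card, fun m => e.symm (s.equivFin.symm m), fun z hz => ?_⟩
    refine ⟨s.equivFin ⟨z, hz⟩, ?_⟩
    simp
  obtain ⟨i, x', hx'⟩ := H.exists_of_fin x
  let φ : i.Loc →ₐ[A] S := e.toAlgHom.comp (H.ofₐ i)
  have hEt : EGA4loc.IsEssentiallyEtale A i.Loc := loc i.pt
  letI : Algebra i.Loc S := φ.toRingHom.toAlgebra
  haveI : IsScalarTower A i.Loc S := IsScalarTower.of_algebraMap_eq' φ.comp_algebraMap.symm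
  have hinj : Function.Injective φ := injective_of_essEtale A S i.Loc hEt
  haveI : IsLocalHom φ.toRingHom := isLocalHom_algebraMap A S i.Loc hEt
  obtain ⟨hloc, hlh, ⟨eE⟩⟩ := range_isLocal A S φ hinj
  refine ⟨φ.range, ?_, hloc, hlh, of_algEquiv eE hEt⟩
  intro z hz
  obtain ⟨m, hm⟩ := hx z hz
  refine ⟨x' m, ?_⟩
  show e (H.of i (x' m)) = z
  rw [hx', hm]

end F1

end Groth.Agent.H8.EssEt
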