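import Mathlib
import Groth.Agent.Lib.Helper8.EssEt.F1

universe u
open IsLocalRing TensorProduct

namespace Groth.Agent.H8.EssEt

section EFT

variable {A S : Type u} [CommRing A] [CommRing S] [Algebra A S]

/-- An essentially finite type subalgebra is contained in any subalgebra `E` with local inclusion
which contains the (finitely many) generators. -/
theorem le_of_essFiniteType (D E : Subalgebra A S) [hD : Algebra.EssFiniteType A D]
    [IsLocalRing E] [IsLocalRing S] [IsLocalHom (algebraMap E S)]
    (h : ∀ x ∈ Algebra.EssFiniteType.finset A D, (x : S) ∈ E) : D ≤ E := by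
  have hadj : ∀ y ∈ Algebra.adjoin A (Algebra.EssFiniteType.finset A D : Set D),
      ((y : D) : S) ∈ E := by
    intro y hy
    induction hy using Algebra.adjoin_induction with
    | mem x hx => exact h x hx
    | algebraMap r => exact E.algebraMap_mem r
    | add x y _ _ hx hy => exact E.add_mem hx hy
    | mul x y _ _ hx hy => exact E.mul_mem hx hy
  have hcond := (Algebra.essFiniteType_cond_iff (R := A) (S := D)
    (Algebra.EssFiniteType.finset A D)).mp hD.cond.choose_spec
  intro d hd
  obtain ⟨t, ht, htu, hdt⟩ := hcond ⟨d, hd⟩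
  have htE : ((t : D) : S) ∈ E := hadj t ht
  have hxE : (((⟨d, hd⟩ : D) * t : D) : S) ∈ E := hadj _ hdt
  have hu2 : IsUnit ((t : D) : S) := htu.map (algebraMap D S)
  have hu3 : IsUnit (⟨_, htE⟩ : E) := by
    exact IsLocalHom.map_nonunit (f := algebraMap E S) (⟨_, htE⟩ : E) hu2
  obtain ⟨v, hv⟩ := hu3.exists_left_inv
  have h3 : ((t : D) : S) * (v : S) = 1 := by
    have := congrArg (fun w : E => (w : S)) hv
    rw [mul_comm]
    exact this
  have h2 : d = (d * ((t : D) : S)) * (v : S) := by
    rw [mul_assoc, h3, mul_one]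
  rw [h2]
  exact E.mul_mem hxE v.2

end EFT

section S16442

variable (A S : Type u) [CommRing A] [IsLocalRing A]
  [CommRing S] [IsLocalRing S] [Algebra A S] [IsLocalHom (algebraMap A S)]
  [hS : Hensel.IsStrictHenselization A S]

include hS in
theorem exists_essEtale_ge_of_essFiniteType (D : Subalgebra A S) [Algebra.EssFiniteType A D] :
    ∃ E : Subalgebra A S, D ≤ E ∧
      ∃ _ : IsLocalRing E, IsLocalHom (algebraMap E S) ∧ EGA4loc.IsEssentiallyEtale A E := by
  classical
  obtain ⟨E, hsE, hloc, hlh, hE⟩ := exists_essEtale_subalgebra A S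
    ((Algebra.EssFiniteType.finset A D).image (fun x : D => (x : S)))
  refine ⟨E, ?_, hloc, hlh, hE⟩
  apply le_of_essFiniteType D E
  intro x hx
  apply hsE
  simp only [Finset.coe_image, Set.mem_image, Finset.mem_coe]
  exact ⟨x, hx, rfl⟩

end S16442

end Groth.Agent.H8.EssEt
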