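import Mathlib
import Groth.Agent.Lib.Helper8.EssEt.EFT

universe u
open IsLocalRing TensorProduct

namespace Groth.Agent.H8.EssEt

open Groth.Agent.H8.Hens

section Q

variable (A D : Type u) [CommRing A] [IsLocalRing A] [CommRing D] [IsLocalRing D] [Algebra A D]
  [IsLocalHom (algebraMap A D)] [Algebra.EssFiniteType A D] [Algebra.FormallyUnramified A D]

instance isLocalHom_residueField : IsLocalHom (algebraMap A (ResidueField D)) := by
  constructor
  intro a ha
  rw [IsScalarTower.algebraMap_apply A D (ResidueField D)] at ha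
  have h1 : IsUnit (algebraMap A D a) := by
    by_contra hnu
    have : algebraMap D (ResidueField D) (algebraMap A D a) = 0 :=
      (residue_eq_zero_iff _).mpr hnu
    rw [this] at ha
    exact not_isUnit_zero ha
  exact IsLocalHom.map_nonunit (f := algebraMap A D) a h1

/-- A local, essentially of finite type, formally unramified algebra over a local ring is a
quotient of an essentially étale local algebra. -/
theorem exists_essEtale_surjective :
    ∃ (E : Type u) (_ : CommRing E) (_ : Algebra A E) (_ : IsLocalRing E)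
      (_ : IsLocalHom (algebraMap A E)) (ψ : E →ₐ[A] D),
      EGA4loc.IsEssentiallyEtale A E ∧ Function.Surjective ψ := by
  classical
  let D₀ := Algebra.EssFiniteType.subalgebra A D
  let q₀ : Ideal D₀ := (maximalIdeal D).comap (algebraMap D₀ D)
  haveI : q₀.IsPrime := Ideal.comap_isPrime _ _
  have hM : Algebra.EssFiniteType.submonoid A D = q₀.primeCompl := by
    ext x
    show IsUnit (algebraMap D₀ D x) ↔ x ∉ q₀
    rw [Ideal.mem_comap, mem_maximalIdeal, mem_nonunits_iff, not_not]
  haveI hloc : IsLocalization.AtPrime D q₀ := by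
    have := Algebra.EssFiniteType.isLocalization (R := A) (S := D)
    rwa [hM] at this
  let e : D ≃ₐ[D₀] Localization.AtPrime q₀ :=
    IsLocalization.algEquiv q₀.primeCompl D (Localization.AtPrime q₀)
  haveI : Algebra.IsUnramifiedAt A q₀ := by
    show Algebra.FormallyUnramified A (Localization.AtPrime q₀)
    exact Algebra.FormallyUnramified.of_equiv (e.restrictScalars A)
  obtain ⟨f, hf, P, φ, hφ⟩ := Algebra.IsUnramifiedAt.exists_hasStandardEtaleSurjectionOn (R := A) q₀
  have hfu : IsUnit (algebraMap D₀ D f) := by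
    have : f ∈ q₀.primeCompl := hf
    rw [← hM] at this
    exact this
  let θ : Localization.Away f →ₐ[A] D :=
    IsLocalization.liftAlgHom (M := .powers f) (f := IsScalarTower.toAlgHom A D₀ D) (by
      rintro ⟨y, n, rfl⟩
      rw [map_pow]
      exact hfu.pow n)
  have hθ : ∀ x : D₀, θ (algebraMap D₀ _ x) = algebraMap D₀ D x := fun x => by simp [θ]
  let ψ₀ : P.Ring →ₐ[A] D := θ.comp φ
  let σ : P.Ring →ₐ[A] ResidueField D := (IsScalarTower.toAlgHom A D (ResidueField D)).comp ψ₀
  have hunit : ∀ y : (ptIdeal σ).primeCompl, IsUnit (ψ₀ y) := by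
    intro y
    by_contra hnu
    apply y.2
    show σ y = 0
    exact (residue_eq_zero_iff _).mpr hnu
  let ψ : Loc σ →ₐ[A] D := IsLocalization.liftAlgHom (M := (ptIdeal σ).primeCompl) (f := ψ₀) hunit
  have hψ : ∀ x : P.Ring, ψ (algebraMap P.Ring (Loc σ) x) = ψ₀ x := fun x => by simp [ψ]
  refine ⟨Loc σ, inferInstance, inferInstance, inferInstance, inferInstance, ψ, loc σ, ?_⟩
  intro d
  obtain ⟨⟨x, u⟩, hxu⟩ := IsLocalization.surj q₀.primeCompl d
  obtain ⟨a, ha⟩ := hφ (algebraMap D₀ _ x)
  obtain ⟨b, hb⟩ := hφ (algebraMap D₀ _ (u : D₀))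
  have ha' : ψ₀ a = algebraMap D₀ D x := by
    show θ (φ a) = _
    rw [ha, hθ]
  have hb' : ψ₀ b = algebraMap D₀ D (u : D₀) := by
    show θ (φ b) = _
    rw [hb, hθ]
  have hu : IsUnit (algebraMap D₀ D (u : D₀)) := IsLocalization.map_units D u
  have hbσ : b ∈ (ptIdeal σ).primeCompl := by
    intro hb0
    have : σ b = 0 := hb0
    have h2 : residue D (ψ₀ b) = 0 := this
    rw [residue_eq_zero_iff, hb'] at h2
    exact h2 hu
  refine ⟨IsLocalization.mk' (Loc σ) a ⟨b, hbσ⟩, ?_⟩
  apply hu.mul_left_injective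
  show ψ _ * algebraMap D₀ D (u : D₀) = d * algebraMap D₀ D (u : D₀)
  rw [hxu, ← hb', ← hψ b, ← map_mul]
  have : IsLocalization.mk' (Loc σ) a ⟨b, hbσ⟩ * algebraMap P.Ring (Loc σ) b =
      algebraMap P.Ring (Loc σ) a := IsLocalization.mk'_spec _ _ _
  rw [this, hψ, ha']

end Q

section S16438

variable (A S : Type u) [CommRing A] [IsLocalRing A]
  [CommRing S] [IsLocalRing S] [Algebra A S] [IsLocalHom (algebraMap A S)]
  [hS : Hensel.IsStrictHenselization A S]

include hS in
/-- A formally unramified essentially finite type local subalgebra of `A^{sh}` dominated by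
`A^{sh}` is essentially étale. -/
theorem isEssentiallyEtale_of_formallyUnramified (D : Subalgebra A S) [IsLocalRing D]
    [IsLocalHom (algebraMap A D)] [Algebra.EssFiniteType A D] [Algebra.FormallyUnramified A D] :
    EGA4loc.IsEssentiallyEtale A D := by
  obtain ⟨E, _, _, _, _, ψ, hE, hψ⟩ := exists_essEtale_surjective A D
  let φ : E →ₐ[A] S := D.val.comp ψ
  letI : Algebra E S := φ.toRingHom.toAlgebra
  haveI : IsScalarTower A E S := IsScalarTower.of_algebraMap_eq' φ.comp_algebraMap.symm
  have hinj : Function.Injective φ := injective_of_essEtale A S E hE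
  have hinjψ : Function.Injective ψ := by
    intro x y hxy
    apply hinj
    show (ψ x : S) = ψ y
    rw [hxy]
  exact of_algEquiv (AlgEquiv.ofBijective ψ ⟨hinjψ, hψ⟩) hE

end S16438

end Groth.Agent.H8.EssEt
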