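import Mathlib
import Groth.Agent.Lib.Helper8.EssEt.CoefRing
import Groth.Agent.Lib.Helper8.EssEt.Unram

/-!
# Essentially étale local subalgebras of the strict henselization of a henselian local ring
-/

universe u
open IsLocalRing TensorProduct Polynomial

namespace Groth.Agent.H8.EssEt

open Groth.Agent.H8.Hens

/-- Essentially étale subalgebras of `S`. -/
structure EtSub (A S : Type u) [CommRing A] [IsLocalRing A] [CommRing S] [Algebra A S] where
  E : Subalgebra A S
  ess : EGA4loc.IsEssentiallyEtale A E

namespace EtSub

section Basic

variable {A S : Type u} [CommRing A] [IsLocalRing A]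
  [CommRing S] [IsLocalRing S] [Algebra A S] [IsLocalHom (algebraMap A S)]

instance (X : EtSub A S) : IsLocalRing X.E := isLocalRing X.ess

instance (X : EtSub A S) : IsLocalHom (algebraMap A X.E) := by
  constructor
  intro a ha
  have h1 : IsUnit (algebraMap A S a) := by
    have := ha.map (algebraMap X.E S)
    rwa [← IsScalarTower.algebraMap_apply] at this
  exact IsLocalHom.map_nonunit (f := algebraMap A S) a h1

instance (X : EtSub A S) : IsLocalHom (algebraMap X.E S) :=
  isLocalHom_of_algHom X.ess (IsScalarTower.toAlgHom A X.E S)

/-- The residue field map `κ(E) → κ(S)` as an algebra map over `κ(A)`. -/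
noncomputable def resMap (X : EtSub A S) :
    ResidueField X.E →ₐ[ResidueField A] ResidueField S :=
  { ResidueField.map (algebraMap X.E S) with
    commutes' := fun x => by
      obtain ⟨a, rfl⟩ := residue_surjective x
      show ResidueField.map (algebraMap X.E S) (ResidueField.map (algebraMap A X.E) (residue A a)) =
        ResidueField.map (algebraMap A S) (residue A a)
      simp only [ResidueField.map_residue]
      rw [← IsScalarTower.algebraMap_apply] }

@[simp]
theorem resMap_residue (X : EtSub A S) (x : X.E) :
    X.resMap (residue X.E x) = residue S (x : S) := rfl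

/-- The residue field of `E` as a subfield of `κ(S)`. -/
noncomputable def resField (X : EtSub A S) :
    IntermediateField (ResidueField A) (ResidueField S) := X.resMap.fieldRange

theorem mem_resField_iff (X : EtSub A S) (y : ResidueField S) :
    y ∈ X.resField ↔ ∃ x : X.E, residue S (x : S) = y := by
  constructor
  · rintro ⟨z, rfl⟩
    obtain ⟨x, rfl⟩ := residue_surjective z
    exact ⟨x, rfl⟩
  · rintro ⟨x, rfl⟩
    exact ⟨residue X.E x, rfl⟩

/-- The iso `κ(E) ≃ resField`. -/
noncomputable def resEquiv (X : EtSub A S) : ResidueField X.E ≃ₐ[ResidueField A] X.resField :=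
  AlgEquiv.ofInjectiveField X.resMap

@[simp]
theorem resEquiv_apply (X : EtSub A S) (z : ResidueField X.E) :
    ((X.resEquiv z : X.resField) : ResidueField S) = X.resMap z := rfl

end Basic

section Hens

variable {A S : Type u} [CommRing A] [HenselianLocalRing A]
  [CommRing S] [IsLocalRing S] [Algebra A S] [IsLocalHom (algebraMap A S)]

theorem finite (X : EtSub A S) : Module.Finite A X.E := finite_of_henselian X.ess

theorem henselian (X : EtSub A S) : HenselianLocalRing X.E := henselian_of_henselian X.ess

/-- Inclusion of residue fields implies inclusion of subalgebras. -/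
theorem le_of_resField_le (X Y : EtSub A S) (h : X.resField ≤ Y.resField) : X.E ≤ Y.E := by
  haveI := Y.henselian
  let τ : ResidueField X.E →+* ResidueField Y.E :=
    (Y.resEquiv.symm.toAlgHom.comp
      ((IntermediateField.inclusion h).comp X.resEquiv.toAlgHom)).toRingHom
  have hτ : ∀ z, Y.resMap (τ z) = X.resMap z := by
    intro z
    have : Y.resMap (τ z) = ((Y.resEquiv (τ z) : Y.resField) : ResidueField S) := rfl
    rw [this]
    show ((Y.resEquiv (Y.resEquiv.symm _) : Y.resField) : ResidueField S) = _
    rw [AlgEquiv.apply_symm_apply]
    rfl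
  obtain ⟨g, hg⟩ := exists_algHom_of_henselian X.ess (T := Y.E) τ (fun a => by
    apply Y.resMap.injective
    show Y.resMap (τ _) = Y.resMap _
    rw [hτ]
    simp only [resMap_residue]
    rfl)
  have heq : (Y.E.val.comp g) = X.E.val := by
    apply algHom_ext_of_residue X.ess
    intro x
    show residue S ((g x : Y.E) : S) = residue S (x : S)
    rw [← resMap_residue Y, hg, hτ, resMap_residue]
  intro x hx
  have := congrArg (fun w => w ⟨x, hx⟩) heq
  simp only [AlgHom.coe_comp, Function.comp_apply, Subalgebra.coe_val] at this
  rw [← this]
  exact (g ⟨x, hx⟩).2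

theorem eq_of_resField_eq (X Y : EtSub A S) (h : X.resField = Y.resField) : X.E = Y.E :=
  le_antisymm (le_of_resField_le X Y h.le) (le_of_resField_le Y X h.ge)

theorem resField_mono (X Y : EtSub A S) (h : X.E ≤ Y.E) : X.resField ≤ Y.resField := by
  intro y hy
  rw [mem_resField_iff] at hy ⊢
  obtain ⟨x, rfl⟩ := hy
  exact ⟨⟨x, h x.2⟩, rfl⟩

instance finiteDimensional_resField (X : EtSub A S) :
    FiniteDimensional (ResidueField A) X.resField := by
  haveI := essFiniteType X.ess
  haveI := formallyUnramified X.ess
  haveI : Module.Finite (ResidueField A) (ResidueField X.E) := inferInstance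
  exact Module.Finite.equiv X.resEquiv.toLinearEquiv

theorem etale (X : EtSub A S) : Algebra.Etale A X.E := by
  obtain ⟨S₀, _, _, _, hfin, het, ⟨e⟩⟩ := exists_finite_etale_tensor A A X.E
    (by
      have : ResidueField.map (algebraMap A A) = RingHom.id _ := by
        ext x
        obtain ⟨a, rfl⟩ := residue_surjective x
        simp [ResidueField.map_residue]
      rw [this]
      exact Function.bijective_id) X.ess
  have e' : X.E ≃ₐ[A] S₀ := e.trans (Algebra.TensorProduct.lid A S₀)
  exact Algebra.Etale.of_equiv e'.symm

end Hens

end EtSub

end Groth.Agent.H8.EssEt
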