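import Mathlib
import Groth.Agent.Lib.Helper8.EssEt.Dich
import Groth.Agent.Lib.Helper8.EssEt.ResField
import Groth.Agent.Lib.Helper8.EssEt.F1

/-!
# Intermediate rings of the strict henselization with finitely generated total ring of
fractions (helper8)
-/

universe u
open scoped nonZeroDivisors TensorProduct
open Polynomial

namespace Groth.Agent.H8.EssEt

open Groth.Agent.H8.Hens

/-- Clearing denominators in a span. -/
theorem exists_smul_mem_span_of_mem_span {A : Type*} [CommRing A] (M : Submonoid A)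
    (K : Type*) [CommRing K] [Algebra A K] [IsLocalization M K]
    (W : Type*) [AddCommGroup W] [Module K W] [Module A W] [IsScalarTower A K W]
    (t : Set W) {x : W} (hx : x ∈ Submodule.span K t) :
    ∃ a ∈ M, a • x ∈ Submodule.span A t := by
  induction hx using Submodule.span_induction with
  | mem y hy => exact ⟨1, M.one_mem, by rw [one_smul]; exact Submodule.subset_span hy⟩
  | zero => exact ⟨1, M.one_mem, by rw [smul_zero]; exact Submodule.zero_mem _⟩
  | add y z _ _ hy hz =>
    obtain ⟨a, ha, hay⟩ := hy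
    obtain ⟨b, hb, hbz⟩ := hz
    refine ⟨a * b, M.mul_mem ha hb, ?_⟩
    rw [smul_add]
    refine Submodule.add_mem _ ?_ ?_
    · rw [mul_comm, mul_smul]
      exact Submodule.smul_mem _ _ hay
    · rw [mul_smul]
      exact Submodule.smul_mem _ _ hbz
  | smul k y _ hy =>
    obtain ⟨a, ha, hay⟩ := hy
    obtain ⟨⟨c, s⟩, hcs⟩ := IsLocalization.surj M k
    refine ⟨s * a, M.mul_mem s.2 ha, ?_⟩
    have : ((s : A) * a) • (k • y) = c • (a • y) := by
      rw [mul_smul, smul_comm a k y, ← algebraMap_smul K (s : A), smul_smul, mul_comm,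
        hcs, algebraMap_smul]
    rw [this]
    exact Submodule.smul_mem _ _ hay

section Sub

/-! ### Subalgebras of a flat, essentially finite type, formally unramified algebra -/

attribute [local instance] Algebra.TensorProduct.rightAlgebra

variable (A E : Type u) [CommRing A] [IsReduced A] [CommRing E] [Algebra A E]
  [Module.Flat A E] [Algebra.EssFiniteType A E] [Algebra.FormallyUnramified A E]
  (hmin : (minimalPrimes A).Finite) {D : Type u} [CommRing D] [Algebra A D] (j : D →ₐ[A] E)
  (hj : Function.Injective j)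

include hmin hj in
/-- A non-zero-divisor of a subalgebra divides a non-zero-divisor of the base. -/
theorem exists_mul_eq_algebraMap_of_mem_nonZeroDivisors (δ : D) (hδ : δ ∈ D⁰) :
    ∃ a ∈ A⁰, ∃ d : D, δ * d = algebraMap A D a := by
  rcases dichotomy A E hmin (j δ) with ⟨P, a, ha, hP⟩ | ⟨P, hP0, hP⟩
  · refine ⟨a, ha, aeval δ P, ?_⟩
    apply hj
    rw [map_mul, ← aeval_algHom_apply, hP, AlgHom.commutes]
  · exfalso
    rw [aeval_algHom_apply] at hP0 hP
    have h1 : δ * aeval δ P = 0 := by
      apply hj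
      rw [map_mul, hP, map_zero]
    have h2 : aeval δ P = 0 := by
      rw [mul_comm] at h1
      exact (mem_nonZeroDivisors_iff_right.mp hδ) _ h1
    apply hP0
    rw [h2, map_zero]

omit [IsReduced A] [Algebra.EssFiniteType A E] [Algebra.FormallyUnramified A E] in
include hj in
theorem algebraMapSubmonoid_le_sub : Algebra.algebraMapSubmonoid D A⁰ ≤ D⁰ := by
  rintro _ ⟨a, ha, rfl⟩
  have h := algebraMapSubmonoid_le A E ⟨a, ha, rfl⟩
  rw [mem_nonZeroDivisors_iff_right] at h ⊢
  intro x hx
  apply hj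
  rw [map_zero]
  apply h
  rw [← j.commutes, ← map_mul, hx, map_zero]

include hmin hj in
theorem isLocalization_fractionRing_sub :
    IsLocalization (Algebra.algebraMapSubmonoid D A⁰) (FractionRing D) :=
  (IsLocalization.iff_of_le_of_exists_dvd (Algebra.algebraMapSubmonoid D A⁰) D⁰
    (algebraMapSubmonoid_le_sub A E j hj)
    (fun δ hδ => by
      obtain ⟨a, ha, d, hd⟩ := exists_mul_eq_algebraMap_of_mem_nonZeroDivisors A E hmin j hj δ hδ
      exact ⟨algebraMap A D a, ⟨a, ha, rfl⟩, ⟨d, hd.symm⟩⟩)).mpr inferInstance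

include hmin hj in
/-- Finiteness up to denominators of a subalgebra. -/
theorem exists_finset_span_sub :
    ∃ t : Finset D, ∀ d : D, ∃ a ∈ A⁰, a • d ∈ Submodule.span A (t : Set D) := by
  classical
  haveI := isArtinianRing_of_isFractionRing A (FractionRing A) hmin
  haveI := finite_fractionRing_tensor A E hmin
  haveI : IsNoetherian (FractionRing A) (FractionRing A ⊗[A] E) :=
    isNoetherian_of_isNoetherianRing_of_finite _ _
  let ι : D →ₗ[A] FractionRing A ⊗[A] E :=
    (TensorProduct.mk A (FractionRing A) E 1).comp j.toLinearMap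
  have hinj : Function.Injective ι := (injective_algebraMap_tensor A E).comp hj
  have hfg : (Submodule.span (FractionRing A) (Set.range ι)).FG := IsNoetherian.noetherian _
  obtain ⟨t', ht'D, ht'⟩ := (Submodule.fg_span_iff_fg_span_finset_subset _).mp hfg
  -- pull back the generators
  have hpre : ∀ w ∈ t', ∃ d : D, ι d = w := fun w hw => ht'D hw
  choose! g hg using hpre
  refine ⟨t'.image g, ?_⟩
  intro d
  have h1 : ι d ∈ Submodule.span (FractionRing A) (t' : Set (FractionRing A ⊗[A] E)) := by
    rw [← ht']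
    exact Submodule.subset_span ⟨d, rfl⟩
  obtain ⟨a, ha, h2⟩ := exists_smul_mem_span_of_mem_span A⁰ (FractionRing A) _ _ h1
  refine ⟨a, ha, ?_⟩
  have h3 : (t' : Set (FractionRing A ⊗[A] E)) = ι '' ((t'.image g : Finset D) : Set D) := by
    ext w
    simp only [Finset.coe_image, Set.mem_image, Finset.mem_coe]
    constructor
    · intro hw
      exact ⟨g w, ⟨w, hw, rfl⟩, hg w hw⟩
    · rintro ⟨_, ⟨w, hw, rfl⟩, rfl⟩
      rw [hg w hw]
      exact hw
  rw [h3, ← Submodule.map_span, ← map_smul] at h2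
  obtain ⟨e', he', hee'⟩ := h2
  rw [← hinj hee']
  exact he'

include hmin hj in
/-- The total ring of fractions of a subalgebra is finite up to denominators. -/
theorem exists_finset_span_fractionRing_sub :
    ∃ t : Finset (FractionRing D), ∀ x : FractionRing D, ∃ a ∈ A⁰,
      algebraMap A (FractionRing D) a * x ∈ Submodule.span A (t : Set (FractionRing D)) := by
  classical
  haveI := isLocalization_fractionRing_sub A E hmin j hj
  obtain ⟨t, ht⟩ := exists_finset_span_sub A E hmin j hj
  refine ⟨t.image (algebraMap D (FractionRing D)), fun x => ?_⟩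
  obtain ⟨⟨d, m⟩, hm⟩ := IsLocalization.surj (Algebra.algebraMapSubmonoid D A⁰) x
  obtain ⟨s, hs, hsm⟩ := m.2
  obtain ⟨a, ha, had⟩ := ht d
  refine ⟨a * s, mul_mem ha hs, ?_⟩
  have h1 : algebraMap A (FractionRing D) (a * s) * x =
      (IsScalarTower.toAlgHom A D (FractionRing D)).toLinearMap (a • d) := by
    rw [map_smul, AlgHom.toLinearMap_apply, IsScalarTower.coe_toAlgHom', ← hm, ← hsm,
      Algebra.smul_def, map_mul, ← IsScalarTower.algebraMap_apply A D (FractionRing D)]
    ring
  rw [h1, Finset.coe_image]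
  have h2 := Submodule.mem_map_of_mem
    (f := (IsScalarTower.toAlgHom A D (FractionRing D)).toLinearMap) had
  rw [Submodule.map_span] at h2
  exact h2

end Sub

section SH

variable (A S : Type u) [CommRing A] [IsLocalRing A] [IsReduced A]
  [CommRing S] [IsLocalRing S] [Algebra A S] [IsLocalHom (algebraMap A S)]
  [hS : Hensel.IsStrictHenselization A S] (hmin : (minimalPrimes A).Finite)

include hS hmin in
/-- A non-zero-divisor of an `A`-subalgebra of the strict henselization is a non-zero-divisor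
of the strict henselization. -/
theorem coe_mem_nonZeroDivisors (D : Subalgebra A S) (d : D) (hd : d ∈ D⁰) : (d : S) ∈ S⁰ := by
  classical
  rw [mem_nonZeroDivisors_iff_right]
  intro s hs
  by_contra hs0
  obtain ⟨E, hsE, _, _, hEss⟩ := exists_essEtale_subalgebra A S {(d : S), s}
  haveI := flat hEss
  haveI := essFiniteType hEss
  haveI := formallyUnramified hEss
  have hdE : (d : S) ∈ E := hsE (by simp)
  rcases dichotomy A E hmin ⟨d, hdE⟩ with ⟨P, a, ha, hP⟩ | ⟨P, hP0, hP⟩
  · haveI : Module.FaithfullyFlat A S := faithfullyFlat_of_isStrictHenselization (R := A) S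
    have h1 : algebraMap A S a ∈ S⁰ := algebraMapSubmonoid_le A S ⟨a, ha, rfl⟩
    have h2 : s * algebraMap A S a = 0 := by
      have h3 := congrArg Subtype.val hP
      have h4 : (d : S) * ((aeval (⟨d, hdE⟩ : E) P : E) : S) = algebraMap A S a := h3
      rw [← h4, ← mul_assoc, hs, zero_mul]
    exact hs0 (mem_nonZeroDivisors_iff_right.mp h1 _ h2)
  · have e1 : ((aeval (⟨d, hdE⟩ : E) P : E) : S) = ((aeval d P : D) : S) := by
      rw [← Subalgebra.aeval_coe, ← Subalgebra.aeval_coe]
    have h1 : d * aeval d P = 0 := by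
      apply Subtype.ext
      have h3 := congrArg Subtype.val hP
      have h4 : (d : S) * ((aeval (⟨d, hdE⟩ : E) P : E) : S) = 0 := h3
      rw [e1] at h4
      exact h4
    have h2 : aeval d P = 0 := by
      rw [mul_comm] at h1
      exact (mem_nonZeroDivisors_iff_right.mp hd) _ h1
    apply hP0
    apply Subtype.ext
    rw [e1, h2]
    rfl

include hS hmin in
theorem main41 (D : Subalgebra A S) [IsLocalRing D] [IsLocalHom (algebraMap D S)] :
    (∃ t : Finset (FractionRing D), ∀ x : FractionRing D, ∃ a ∈ nonZeroDivisors A,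
        algebraMap A (FractionRing D) a * x ∈ Algebra.adjoin A (t : Set (FractionRing D))) ↔
      ∃ E : Subalgebra A S, D ≤ E ∧ ∃ _ : IsLocalRing E, EGA4loc.IsEssentiallyEtale A E := by
  classical
  constructor
  · rintro ⟨t, ht⟩
    -- numerators and denominators
    have hnd : ∀ τ : FractionRing D, ∃ n δ : D, δ ∈ D⁰ ∧
        τ * algebraMap D (FractionRing D) δ = algebraMap D (FractionRing D) n := by
      intro τ
      obtain ⟨⟨n, δ⟩, h⟩ := IsLocalization.surj D⁰ τ
      exact ⟨n, δ, δ.2, h⟩
    choose n δ hδ hτ using hnd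
    obtain ⟨E₀, hsE, _, _, hEss⟩ := exists_essEtale_subalgebra A S
      (t.image (fun τ : FractionRing D => (n τ : S)) ∪
        t.image (fun τ : FractionRing D => (δ τ : S)))
    obtain ⟨X, rfl⟩ : ∃ X : EtSub A S, X.E = E₀ := ⟨⟨E₀, hEss⟩, rfl⟩
    have hnE : ∀ τ ∈ t, (n τ : S) ∈ X.E := fun τ hτ' => hsE (by
      simp only [Finset.coe_union, Finset.coe_image, Set.mem_union, Set.mem_image, Finset.mem_coe]
      exact Or.inl ⟨τ, hτ', rfl⟩)
    have hδE : ∀ τ ∈ t, (δ τ : S) ∈ X.E := fun τ hτ' => hsE (by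
      simp only [Finset.coe_union, Finset.coe_image, Set.mem_union, Set.mem_image, Finset.mem_coe]
      exact Or.inr ⟨τ, hτ', rfl⟩)
    refine ⟨X.E, ?_, inferInstance, hEss⟩
    intro x hxD
    obtain ⟨a, ha, hax⟩ := ht (algebraMap D (FractionRing D) ⟨x, hxD⟩)
    -- elements of the adjoin are fractions of elements of `D ∩ E₀`
    have key : ∀ y ∈ Algebra.adjoin A (t : Set (FractionRing D)), ∃ δ' e : D, δ' ∈ D⁰ ∧
        (δ' : S) ∈ X.E ∧ (e : S) ∈ X.E ∧
        y * algebraMap D (FractionRing D) δ' = algebraMap D (FractionRing D) e := by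
      intro y hy
      induction hy using Algebra.adjoin_induction with
      | mem τ hτ' => exact ⟨δ τ, n τ, hδ τ, hδE τ hτ', hnE τ hτ', hτ τ⟩
      | algebraMap r =>
        refine ⟨1, algebraMap A D r, one_mem _, X.E.one_mem, X.E.algebraMap_mem r, ?_⟩
        rw [map_one, mul_one, ← IsScalarTower.algebraMap_apply]
      | add y z _ _ hy hz =>
        obtain ⟨δ₁, e₁, hδ₁, hδ₁E, he₁E, h₁⟩ := hy
        obtain ⟨δ₂, e₂, hδ₂, hδ₂E, he₂E, h₂⟩ := hz
        refine ⟨δ₁ * δ₂, e₁ * δ₂ + e₂ * δ₁, mul_mem hδ₁ hδ₂, X.E.mul_mem hδ₁E hδ₂E,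
          X.E.add_mem (X.E.mul_mem he₁E hδ₂E) (X.E.mul_mem he₂E hδ₁E), ?_⟩
        rw [map_add, map_mul, map_mul, map_mul, ← h₁, ← h₂]
        ring
      | mul y z _ _ hy hz =>
        obtain ⟨δ₁, e₁, hδ₁, hδ₁E, he₁E, h₁⟩ := hy
        obtain ⟨δ₂, e₂, hδ₂, hδ₂E, he₂E, h₂⟩ := hz
        refine ⟨δ₁ * δ₂, e₁ * e₂, mul_mem hδ₁ hδ₂, X.E.mul_mem hδ₁E hδ₂E,
          X.E.mul_mem he₁E he₂E, ?_⟩
        rw [map_mul, map_mul, ← h₁, ← h₂]
        ring
    obtain ⟨δ', e, hδ', hδ'E, heE, h⟩ := key _ hax
    -- the equation in `D`, then in `S`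
    have hD : algebraMap A D a * ⟨x, hxD⟩ * δ' = e := by
      apply IsFractionRing.injective D (FractionRing D)
      rw [map_mul, map_mul, ← IsScalarTower.algebraMap_apply]
      exact h
    have hS' : algebraMap A S a * (δ' : S) * x = (e : S) := by
      have := congrArg Subtype.val hD
      rw [← this]
      show _ = algebraMap A S a * x * (δ' : S)
      ring
    -- the multiplier is a non-zero-divisor of `S` lying in `E₀`
    haveI : Module.FaithfullyFlat A S := faithfullyFlat_of_isStrictHenselization (R := A) S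
    have h1 : algebraMap A S a ∈ S⁰ := algebraMapSubmonoid_le A S ⟨a, ha, rfl⟩
    have h2 : (δ' : S) ∈ S⁰ := coe_mem_nonZeroDivisors A S hmin D δ' hδ'
    have h3 : algebraMap A S a * (δ' : S) ∈ S⁰ := mul_mem h1 h2
    have h4 : algebraMap A S a * (δ' : S) ∈ X.E := X.E.mul_mem (X.E.algebraMap_mem a) hδ'E
    -- faithful flatness
    haveI hffB : Module.FaithfullyFlat X.E S := faithfullyFlat_of_essEtale A S X.E X.ess
    let e' : X.E := ⟨algebraMap A S a * (δ' : S), h4⟩
    let eE : X.E := ⟨(e : S), heE⟩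
    have h5 : eE ∈ ((Ideal.span {e'}).map (algebraMap X.E S)).comap (algebraMap X.E S) := by
      rw [Ideal.mem_comap, Ideal.map_span, Set.image_singleton, Ideal.mem_span_singleton']
      exact ⟨x, by rw [mul_comm]; exact hS'⟩
    rw [Ideal.comap_map_eq_self_of_faithfullyFlat, Ideal.mem_span_singleton'] at h5
    obtain ⟨b', hb'⟩ := h5
    have h6 : (b' : S) * (algebraMap A S a * (δ' : S)) = (e : S) := congrArg Subtype.val hb'
    have h7 : (x - (b' : S)) * (algebraMap A S a * (δ' : S)) = 0 := by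
      rw [sub_mul, h6, ← hS']
      ring
    have h8 : x - (b' : S) = 0 := mem_nonZeroDivisors_iff_right.mp h3 _ h7
    rw [sub_eq_zero.mp h8]
    exact b'.2
  · rintro ⟨E, hDE, _, hEss⟩
    haveI := flat hEss
    haveI := essFiniteType hEss
    haveI := formallyUnramified hEss
    obtain ⟨t, ht⟩ := exists_finset_span_fractionRing_sub A E hmin (Subalgebra.inclusion hDE)
      (Subalgebra.inclusion_injective hDE)
    refine ⟨t, fun x => ?_⟩
    obtain ⟨a, ha, h⟩ := ht x
    exact ⟨a, ha, Algebra.span_le_adjoin A _ h⟩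

end SH

end Groth.Agent.H8.EssEt
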