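import Mathlib

/-!
# Field-theoretic part: Galois correspondence for the fraction field of a ring with a
group of automorphisms with trivial invariants (helper8)
-/

open scoped nonZeroDivisors

namespace Groth.Agent.H8.EssEt

section FT

variable {A B : Type*} [CommRing A] [IsDomain A] [CommRing B] [IsDomain B] [Algebra A B]
  [Module.Finite A B] [FaithfulSMul A B]
  (KA LB : Type*) [Field KA] [Field LB] [Algebra A KA] [IsFractionRing A KA]
  [Algebra B LB] [IsFractionRing B LB] [Algebra A LB] [IsScalarTower A B LB]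
  [Algebra KA LB] [IsScalarTower A KA LB]

include A B in
theorem finiteDimensional_fractionRing : FiniteDimensional KA LB := by
  haveI : Algebra.IsIntegral A B := Algebra.IsIntegral.of_finite A B
  haveI : Algebra.IsAlgebraic A B := inferInstance
  haveI : IsLocalization (Algebra.algebraMapSubmonoid B A⁰) LB := inferInstance
  exact .of_isLocalization A B A⁰

/-- Elements of `LB` are of the form `b / a`. -/
theorem exists_eq_div (x : LB) : ∃ (b : B) (a : A), a ≠ 0 ∧
    x * algebraMap A LB a = algebraMap B LB b := by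
  haveI : Algebra.IsIntegral A B := Algebra.IsIntegral.of_finite A B
  haveI : Algebra.IsAlgebraic A B := inferInstance
  haveI : IsLocalization (Algebra.algebraMapSubmonoid B A⁰) LB := inferInstance
  obtain ⟨⟨b, ⟨_, a, ha, rfl⟩⟩, h⟩ := IsLocalization.surj (Algebra.algebraMapSubmonoid B A⁰) x
  refine ⟨b, a, nonZeroDivisors.ne_zero ha, ?_⟩
  rw [IsScalarTower.algebraMap_apply A B LB]
  exact h

variable (hfix : ∀ b : B, (∀ σ : B ≃ₐ[A] B, σ b = b) → ∃ a : A, algebraMap A B a = b)

include hfix in
theorem fixedField_range_eq_bot :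
    IntermediateField.fixedField
      (IsFractionRing.fieldEquivOfAlgEquivHom KA LB : (B ≃ₐ[A] B) →* (LB ≃ₐ[KA] LB)).range = ⊥ := by
  rw [eq_bot_iff]
  intro x hx
  rw [IntermediateField.mem_fixedField_iff] at hx
  obtain ⟨b, a, ha, hxa⟩ := exists_eq_div (A := A) (B := B) LB x
  have hb : ∀ σ : B ≃ₐ[A] B, σ b = b := by
    intro σ
    apply IsFractionRing.injective B LB
    have h1 := hx _ ⟨σ, rfl⟩
    rw [← IsFractionRing.fieldEquivOfAlgEquiv_algebraMap KA LB LB σ b, ← hxa, map_mul]
    rw [IsFractionRing.fieldEquivOfAlgEquivHom_apply] at h1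
    rw [h1, IsScalarTower.algebraMap_apply A KA LB, AlgEquiv.commutes]
  obtain ⟨c, hc⟩ := hfix b hb
  rw [IntermediateField.mem_bot]
  have ha' : algebraMap A KA a ≠ 0 := by
    intro h0
    exact ha (IsFractionRing.injective A KA (by rw [h0, map_zero]))
  refine ⟨algebraMap A KA c / algebraMap A KA a, ?_⟩
  rw [map_div₀, ← IsScalarTower.algebraMap_apply, ← IsScalarTower.algebraMap_apply,
    IsScalarTower.algebraMap_apply A B LB c, hc, ← hxa]
  have ha'' : algebraMap A LB a ≠ 0 := by
    rw [IsScalarTower.algebraMap_apply A KA LB]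
    exact (map_ne_zero _).mpr ha'
  field_simp

include hfix in
theorem range_eq_top :
    (IsFractionRing.fieldEquivOfAlgEquivHom KA LB : (B ≃ₐ[A] B) →* (LB ≃ₐ[KA] LB)).range = ⊤ := by
  haveI := finiteDimensional_fractionRing (A := A) (B := B) KA LB
  rw [← IntermediateField.fixingSubgroup_fixedField
    (IsFractionRing.fieldEquivOfAlgEquivHom KA LB : (B ≃ₐ[A] B) →* (LB ≃ₐ[KA] LB)).range,
    fixedField_range_eq_bot KA LB hfix, IntermediateField.fixingSubgroup_bot]

include hfix in
theorem isGalois_fractionRing : IsGalois KA LB := by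
  haveI := finiteDimensional_fractionRing (A := A) (B := B) KA LB
  apply IsGalois.of_fixedField_eq_bot
  rw [← range_eq_top KA LB hfix]
  exact fixedField_range_eq_bot KA LB hfix

include hfix in
/-- The Galois correspondence, on the level of the ring `B`. -/
theorem mem_iff_fixed (L' : IntermediateField KA LB) (b : B) :
    algebraMap B LB b ∈ L' ↔
      ∀ σ ∈ (IntermediateField.fixingSubgroup L').comap
        (IsFractionRing.fieldEquivOfAlgEquivHom KA LB : (B ≃ₐ[A] B) →* (LB ≃ₐ[KA] LB)),
        σ b = b := by
  haveI := finiteDimensional_fractionRing (A := A) (B := B) KA LB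
  haveI := isGalois_fractionRing KA LB hfix
  constructor
  · intro hb σ hσ
    rw [Subgroup.mem_comap, IntermediateField.mem_fixingSubgroup_iff] at hσ
    have := hσ _ hb
    rw [IsFractionRing.fieldEquivOfAlgEquivHom_apply,
      IsFractionRing.fieldEquivOfAlgEquiv_algebraMap] at this
    exact IsFractionRing.injective B LB this
  · intro h
    rw [← IsGalois.fixedField_fixingSubgroup L', IntermediateField.mem_fixedField_iff]
    intro τ hτ
    have hτ' : τ ∈ (IsFractionRing.fieldEquivOfAlgEquivHom KA LB :
        (B ≃ₐ[A] B) →* (LB ≃ₐ[KA] LB)).range := by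
      rw [range_eq_top KA LB hfix]; trivial
    obtain ⟨σ, rfl⟩ := hτ'
    rw [IsFractionRing.fieldEquivOfAlgEquivHom_apply,
      IsFractionRing.fieldEquivOfAlgEquiv_algebraMap, h σ hτ]

end FT

end Groth.Agent.H8.EssEt
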