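import Mathlib

namespace Groth.Agent.H8.EssEt

open IsLocalRing

/-- Nakayama: powers of `β` span `B` over `F` if their residues span `κ(B)` over `κ(F)`. -/
theorem span_pow_eq_top {F B : Type*} [CommRing F] [IsLocalRing F] [CommRing B] [IsLocalRing B]
    [Algebra F B] [IsLocalHom (algebraMap F B)] [Module.Finite F B]
    (hm : (maximalIdeal F).map (algebraMap F B) = maximalIdeal B) (β : B) (n : ℕ)
    (hspan : Submodule.span (ResidueField F)
      (Set.range fun i : Fin n => (residue B β) ^ (i : ℕ)) = ⊤) :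
    Submodule.span F (Set.range fun i : Fin n => β ^ (i : ℕ)) = ⊤ := by
  rw [eq_top_iff]
  apply Submodule.le_of_le_smul_of_le_jacobson_bot (I := maximalIdeal F) Module.Finite.fg_top
    (IsLocalRing.maximalIdeal_le_jacobson _)
  intro b _
  have hb : residue B b ∈ Submodule.span (ResidueField F)
      (Set.range fun i : Fin n => (residue B β) ^ (i : ℕ)) := by rw [hspan]; trivial
  obtain ⟨cb, hcb⟩ := (Submodule.mem_span_range_iff_exists_fun _).mp hb
  choose c hc using fun i => residue_surjective (cb i)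
  have h1 : b - ∑ i, c i • β ^ (i : ℕ) ∈ maximalIdeal B := by
    rw [← residue_eq_zero_iff, map_sub, map_sum, ← hcb, sub_eq_zero]
    refine Finset.sum_congr rfl fun i _ => ?_
    rw [Algebra.smul_def, Algebra.smul_def, map_mul, map_pow, ← hc i]
    rfl
  rw [← hm] at h1
  have h2 : b - ∑ i, c i • β ^ (i : ℕ) ∈ maximalIdeal F • (⊤ : Submodule F B) := by
    rw [Ideal.smul_top_eq_map]
    exact h1
  have h3 : ∑ i, c i • β ^ (i : ℕ) ∈ Submodule.span F (Set.range fun i : Fin n => β ^ (i : ℕ)) :=
    Submodule.sum_mem _ fun i _ => Submodule.smul_mem _ _ (Submodule.subset_span ⟨i, rfl⟩)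
  have : b = ∑ i, c i • β ^ (i : ℕ) + (b - ∑ i, c i • β ^ (i : ℕ)) := by ring
  rw [this]
  exact Submodule.add_mem_sup h3 h2

end Groth.Agent.H8.EssEt
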