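import Mathlib

/-!
# A Vandermonde argument for invariants (helper8)
-/

namespace Groth.Agent.H8.EssEt

open Matrix

/-- Let `B` be a commutative `F`-algebra spanned over `F` by `1, β, …, β^{d}` and let
`σ_0, …, σ_d` be `F`-algebra endomorphisms of `B` such that the differences `σ_i β - σ_j β`
(`i ≠ j`) are units. Then every element fixed by all `σ_i` comes from `F`. -/
theorem mem_range_of_fixed {F B : Type*} [CommRing F] [CommRing B] [Algebra F B] (d : ℕ) (β : B)
    (hspan : Submodule.span F (Set.range fun i : Fin (d + 1) => β ^ (i : ℕ)) = ⊤)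
    (σ : Fin (d + 1) → (B →ₐ[F] B))
    (hunit : ∀ i j, i ≠ j → IsUnit (σ i β - σ j β))
    (x : B) (hx : ∀ i, σ i x = x) : ∃ c : F, algebraMap F B c = x := by
  classical
  have hxmem : x ∈ Submodule.span F (Set.range fun i : Fin (d + 1) => β ^ (i : ℕ)) := by
    rw [hspan]; trivial
  obtain ⟨c, hc⟩ := (Submodule.mem_span_range_iff_exists_fun F).mp hxmem
  -- the Vandermonde matrix
  let V : Matrix (Fin (d + 1)) (Fin (d + 1)) B := Matrix.vandermonde (fun i => σ i β)
  have hdet : IsUnit V.det := by
    rw [Matrix.det_vandermonde]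
    refine (IsUnit.prod_univ_iff).mpr fun i => ?_
    refine IsUnit.prod_iff.mpr fun j hj => ?_
    apply hunit
    rw [Finset.mem_Ioi] at hj
    exact hj.ne'
  let v : Fin (d + 1) → B := fun j => algebraMap F B (c j) - if j = 0 then x else 0
  have hVv : V.mulVec v = 0 := by
    funext i
    simp only [Matrix.mulVec, dotProduct, V, Matrix.vandermonde_apply, v, Pi.zero_apply]
    have h1 : σ i x = ∑ j, algebraMap F B (c j) * (σ i β) ^ (j : ℕ) := by
      rw [← hc, map_sum]
      refine Finset.sum_congr rfl fun j _ => ?_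
      rw [Algebra.smul_def, map_mul, AlgHom.commutes, map_pow]
    rw [hx] at h1
    have e1 : ∑ j : Fin (d + 1), (σ i β) ^ (j : ℕ) * algebraMap F B (c j) = x := by
      rw [h1]
      exact Finset.sum_congr rfl fun j _ => mul_comm _ _
    have e2 : ∑ j : Fin (d + 1), (σ i β) ^ (j : ℕ) * (if j = 0 then x else 0) = x := by
      rw [Finset.sum_eq_single (0 : Fin (d + 1))]
      · simp
      · intro j _ hj
        rw [if_neg hj, mul_zero]
      · intro h
        exact absurd (Finset.mem_univ _) h
    simp only [mul_sub, Finset.sum_sub_distrib]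
    rw [e1, e2, sub_self]
  have hv : v = 0 := by
    have hinj := Matrix.mulVec_injective_of_isUnit ((Matrix.isUnit_iff_isUnit_det V).mpr hdet)
    apply hinj
    rw [hVv, Matrix.mulVec_zero]
  refine ⟨c 0, ?_⟩
  have := congrFun hv 0
  simp only [v, if_true, Pi.zero_apply, sub_eq_zero] at this
  exact this

end Groth.Agent.H8.EssEt
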