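import Mathlib
import Groth.Agent.Lib.Helper8.EssEt.HensBase
import Groth.Agent.Lib.Helper8.EssEt.Vand
import Groth.Agent.Lib.Helper8.EssEt.Naka

/-!
# Invariants of the automorphism group of a finite étale local Galois algebra (helper8)
-/

universe u
open IsLocalRing TensorProduct Polynomial

namespace Groth.Agent.H8.EssEt

section Inv

variable (F B : Type u) [CommRing F] [IsLocalRing F] [CommRing B] [IsLocalRing B] [Algebra F B]
  [IsLocalHom (algebraMap F B)] [Algebra.Etale F B] [Module.Finite F B]

/-- If `B` is a finite étale local `F`-algebra, henselian, with normal residue field extension,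
then the invariants of `Aut_F(B)` are `F`. -/
theorem exists_algebraMap_eq_of_fixed (HB : HenselianLocalRing B)
    [Normal (ResidueField F) (ResidueField B)]
    (x : B) (hx : ∀ σ : B ≃ₐ[F] B, σ x = x) : ∃ c : F, algebraMap F B c = x := by
  classical
  have hFB : EGA4loc.IsEssentiallyEtale F B := of_etale_local
  haveI := essFiniteType hFB
  haveI := formallyUnramified hFB
  haveI hfin : Module.Finite (ResidueField F) (ResidueField B) := inferInstance
  haveI hsep : Algebra.IsSeparable (ResidueField F) (ResidueField B) := inferInstance
  haveI : IsGalois (ResidueField F) (ResidueField B) := ⟨⟩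
  obtain ⟨θ, hθ⟩ := Field.exists_primitive_element (ResidueField F) (ResidueField B)
  obtain ⟨β, rfl⟩ := residue_surjective θ
  have hint : IsIntegral (ResidueField F) (residue B β) := Algebra.IsIntegral.isIntegral _
  -- the dimension
  set n := Module.finrank (ResidueField F) (ResidueField B) with hn
  have hnpos : 0 < n := Module.finrank_pos
  obtain ⟨d, hd⟩ : ∃ d, n = d + 1 := ⟨n - 1, by omega⟩
  -- powers of the residue span
  have hspan : Submodule.span (ResidueField F)
      (Set.range fun i : Fin (d + 1) => (residue B β) ^ (i : ℕ)) = ⊤ := by
    let pb := IntermediateField.adjoin.powerBasis hint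
    have hdim : pb.dim = d + 1 := by
      rw [← hd, hn]
      have h1 : Module.finrank (ResidueField F) (IntermediateField.adjoin (ResidueField F) {residue B β}) = pb.dim :=
        pb.finrank
      rw [← h1, hθ]
      exact IntermediateField.finrank_top'
    rw [eq_top_iff]
    intro y _
    have hy : (⟨y, by rw [hθ]; trivial⟩ : (IntermediateField.adjoin (ResidueField F) {residue B β})) ∈
        Submodule.span (ResidueField F) (Set.range pb.basis) := by
      rw [pb.basis.span_eq]; trivial
    obtain ⟨c, hc⟩ := (Submodule.mem_span_range_iff_exists_fun _).mp hy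
    have h2 := congrArg (fun w : (IntermediateField.adjoin (ResidueField F) {residue B β}) => (w : ResidueField B)) hc
    simp only [AddSubmonoidClass.coe_finsetSum, IntermediateField.coe_smul,
      PowerBasis.coe_basis, SubmonoidClass.coe_pow, IntermediateField.adjoin.powerBasis_gen,
      IntermediateField.AdjoinSimple.coe_gen] at h2
    rw [← h2]
    refine Submodule.sum_mem _ fun i _ => Submodule.smul_mem _ _ (Submodule.subset_span ?_)
    exact ⟨Fin.cast hdim i, rfl⟩
  have hm : (maximalIdeal F).map (algebraMap F B) = maximalIdeal B := map_maximalIdeal hFB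
  have hspanB := span_pow_eq_top hm β (d + 1) hspan
  -- the automorphisms
  have hcard : Fintype.card (ResidueField B ≃ₐ[ResidueField F] ResidueField B) = d + 1 := by
    rw [← hd, hn, ← Nat.card_eq_fintype_card]
    exact IsGalois.card_aut_eq_finrank (ResidueField F) (ResidueField B)
  let e : Fin (d + 1) ≃ (ResidueField B ≃ₐ[ResidueField F] ResidueField B) :=
    (Fintype.equivFinOfCardEq hcard).symm
  have hlift : ∀ i, ∃ g : B ≃ₐ[F] B, ∀ b, residue B (g b) = e i (residue B b) := by
    intro i
    exact exists_algEquiv_of_residue_equiv hFB hFB HB HB (e i).toRingEquiv (fun a => by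
      show e i (residue B (algebraMap F B a)) = _
      have : residue B (algebraMap F B a) =
          algebraMap (ResidueField F) (ResidueField B) (residue F a) := rfl
      rw [this, (e i).commutes])
  choose g hg using hlift
  have hunit : ∀ i j, i ≠ j → IsUnit ((g i : B →ₐ[F] B) β - (g j : B →ₐ[F] B) β) := by
    intro i j hij
    by_contra hnu
    apply hij
    apply e.injective
    have h0 : residue B (g i β - g j β) = 0 := (residue_eq_zero_iff _).mpr hnu
    rw [map_sub, hg, hg, sub_eq_zero] at h0
    have hadj : Algebra.adjoin (ResidueField F) {residue B β} = ⊤ := by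
      have := IntermediateField.adjoin_simple_toSubalgebra_of_isAlgebraic hint.isAlgebraic
      rw [← this, hθ]
      rfl
    have : (e i : ResidueField B →ₐ[ResidueField F] ResidueField B) = e j := by
      apply AlgHom.ext_of_adjoin_eq_top hadj
      intro y hy
      rw [Set.mem_singleton_iff] at hy
      rw [hy]
      exact h0
    exact AlgEquiv.coe_toAlgHom_injective this
  exact mem_range_of_fixed d β hspanB (fun i => (g i : B →ₐ[F] B)) hunit x (fun i => hx (g i))

end Inv

end Groth.Agent.H8.EssEt
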