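import Mathlib
import Groth.Agent.Lib.Helper8.EssEt.ResField

/-!
# Existence of essentially étale subalgebras with prescribed residue field
-/

universe u
open IsLocalRing TensorProduct Polynomial

namespace Groth.Agent.H8.EssEt

open Groth.Agent.H8.Hens

namespace EtSub

section Ex

variable (A S : Type u) [CommRing A] [HenselianLocalRing A]
  [CommRing S] [IsLocalRing S] [Algebra A S] [IsLocalHom (algebraMap A S)]
  [hS : Hensel.IsStrictHenselization A S]

include hS in
theorem exists_mem_finset (s : Finset S) : ∃ X : EtSub A S, (s : Set S) ⊆ (X.E : Set S) := by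
  obtain ⟨E, hsE, -, -, hE⟩ := exists_essEtale_subalgebra A S s
  exact ⟨⟨E, hE⟩, hsE⟩

include hS in
theorem exists_mem (x : S) : ∃ X : EtSub A S, x ∈ X.E := by
  classical
  obtain ⟨X, hX⟩ := exists_mem_finset A S {x}
  exact ⟨X, hX (by simp)⟩

include hS in
/-- For an element `θ` of the residue field of `S`, there is an essentially étale subalgebra whose
residue field is `κ(A)(θ)`. -/
theorem exists_resField_eq_adjoin (θ : ResidueField S) :
    ∃ X : EtSub A S, X.resField = IntermediateField.adjoin (ResidueField A) {θ} := by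
  haveI : HenselianLocalRing S := hS.henselian
  haveI hsep : Algebra.IsSeparable (ResidueField A) (ResidueField S) := hS.isSepClosure.separable
  have hint : IsIntegral (ResidueField A) θ := (Algebra.IsSeparable.isSeparable _ θ).isIntegral
  set pA : (ResidueField A)[X] := minpoly (ResidueField A) θ with hpA
  have hpA_monic : pA.Monic := minpoly.monic hint
  have hpA_irr : Irreducible pA := minpoly.irreducible hint
  have hpA_sep : pA.Separable := Algebra.IsSeparable.isSeparable (ResidueField A) θ
  obtain ⟨p, hp_map, -, hp_monic⟩ := Polynomial.lifts_and_degree_eq_and_monic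
    (Polynomial.map_surjective (residue A) residue_surjective pA |>.imp fun _ h => h :
      pA ∈ Polynomial.lifts (residue A)) hpA_monic
  have hp_irr : Irreducible (p.map (residue A)) := hp_map ▸ hpA_irr
  have hp_sep : (p.map (residue A)).Separable := hp_map ▸ hpA_sep
  haveI hlocB : IsLocalRing (AdjoinRoot p) := adjoinRoot_isLocalRing p hp_monic hp_irr
  haveI hlhB : IsLocalHom (algebraMap A (AdjoinRoot p)) := adjoinRoot_isLocalHom p hp_monic hp_irr
  have hB : EGA4loc.IsEssentiallyEtale A (AdjoinRoot p) :=
    adjoinRoot_isEssentiallyEtale p hp_monic hp_irr hp_sep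
  have haev : ∀ f : A[X], aeval θ f = aeval θ (f.map (residue A)) := by
    intro f
    have : residue A = algebraMap A (ResidueField A) := rfl
    rw [this, aeval_map_algebraMap]
  have h1 : aeval θ p = 0 := by
    rw [haev, hp_map]
    exact minpoly.aeval _ _
  have h2 : aeval θ (derivative p) ≠ 0 := by
    rw [haev, ← derivative_map, hp_map]
    exact hpA_sep.aeval_derivative_ne_zero (minpoly.aeval _ _)
  obtain ⟨α, ⟨hα1, hα2⟩, -⟩ := existsUnique_root_of_henselian (T := S) p hp_monic θ h1 h2
  let φ : AdjoinRoot p →ₐ[A] S := AdjoinRoot.liftAlgHom p (Algebra.ofId A S) α (by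
    rw [← hα1]; rfl)
  have hφroot : φ (AdjoinRoot.root p) = α := by simp [φ]
  letI : Algebra (AdjoinRoot p) S := φ.toRingHom.toAlgebra
  haveI : IsScalarTower A (AdjoinRoot p) S := IsScalarTower.of_algebraMap_eq' φ.comp_algebraMap.symm
  have hinj : Function.Injective φ := injective_of_essEtale A S (AdjoinRoot p) hB
  let e : AdjoinRoot p ≃ₐ[A] φ.range := AlgEquiv.ofInjective φ hinj
  refine ⟨⟨φ.range, of_algEquiv e hB⟩, ?_⟩
  apply le_antisymm
  · intro y hy
    rw [mem_resField_iff] at hy
    obtain ⟨⟨x, b, rfl⟩, rfl⟩ := hy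
    obtain ⟨f, rfl⟩ := AdjoinRoot.mk_surjective b
    show residue S (φ (AdjoinRoot.mk p f)) ∈ _
    have h3 : φ (AdjoinRoot.mk p f) = aeval α f := by
      simp [φ, AdjoinRoot.liftAlgHom, aeval_def, Algebra.ofId]
    rw [h3]
    have h4 : residue S (aeval α f) = aeval θ f := by
      rw [← hα2]
      have := Polynomial.aeval_algHom_apply (IsScalarTower.toAlgHom A S (ResidueField S)) α f
      rw [IsScalarTower.coe_toAlgHom'] at this
      exact this.symm
    rw [h4, haev]
    rw [← IntermediateField.mem_toSubalgebra, aeval_def, eval₂_eq_sum_range]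
    refine Subalgebra.sum_mem _ fun i _ => Subalgebra.mul_mem _ (Subalgebra.algebraMap_mem _ _)
      (Subalgebra.pow_mem _ ?_ _)
    exact IntermediateField.mem_adjoin_simple_self _ θ
  · rw [IntermediateField.adjoin_le_iff]
    intro y hy
    rw [Set.mem_singleton_iff] at hy
    rw [hy]
    rw [SetLike.mem_coe, mem_resField_iff]
    exact ⟨⟨α, AdjoinRoot.root p, hφroot⟩, hα2⟩

end Ex

end EtSub

end Groth.Agent.H8.EssEt
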