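import Mathlib
import Groth.Agent.Lib.Helper8.EssEt.ResEx

universe u
open IsLocalRing TensorProduct Polynomial

namespace Groth.Agent.H8.EssEt

namespace EtSub

section Ex2

variable (A S : Type u) [CommRing A] [HenselianLocalRing A]
  [CommRing S] [IsLocalRing S] [Algebra A S] [IsLocalHom (algebraMap A S)]
  [hS : Hensel.IsStrictHenselization A S]

include hS in
/-- Every finite subextension of `κ(S)/κ(A)` is the residue field of an essentially étale
subalgebra. -/
theorem exists_resField_eq (N : IntermediateField (ResidueField A) (ResidueField S))
    [FiniteDimensional (ResidueField A) N] : ∃ X : EtSub A S, X.resField = N := by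
  haveI hsep : Algebra.IsSeparable (ResidueField A) (ResidueField S) := hS.isSepClosure.separable
  haveI : Algebra.IsSeparable (ResidueField A) N :=
    Algebra.isSeparable_tower_bot_of_isSeparable (ResidueField A) N (ResidueField S)
  obtain ⟨θ, hθ⟩ := Field.exists_primitive_element (ResidueField A) N
  obtain ⟨X, hX⟩ := exists_resField_eq_adjoin A S (θ : ResidueField S)
  refine ⟨X, ?_⟩
  rw [hX]
  have h1 := congrArg (IntermediateField.map N.val) hθ
  rw [IntermediateField.adjoin_map, Set.image_singleton] at h1
  rw [show (N.val θ : ResidueField S) = (θ : ResidueField S) from rfl] at h1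
  rw [h1]
  ext y
  simp [IntermediateField.mem_map]

include hS in
/-- Galois hull. -/
theorem exists_normal_ge (X : EtSub A S) :
    ∃ Y : EtSub A S, X.E ≤ Y.E ∧ Normal (ResidueField A) Y.resField := by
  haveI hsc : IsSepClosure (ResidueField A) (ResidueField S) := hS.isSepClosure
  haveI : IsGalois (ResidueField A) (ResidueField S) := IsSepClosure.isGalois
  haveI : Normal (ResidueField A) (ResidueField S) := inferInstance
  let N := IntermediateField.normalClosure (ResidueField A) X.resField (ResidueField S)
  haveI : FiniteDimensional (ResidueField A) N := normalClosure.is_finiteDimensional _ _ _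
  obtain ⟨Y, hY⟩ := exists_resField_eq A S N
  refine ⟨Y, le_of_resField_le X Y ?_, ?_⟩
  · rw [hY]
    exact IntermediateField.le_normalClosure _
  · rw [hY]
    exact normalClosure.normal _ _ _

end Ex2

end EtSub

end Groth.Agent.H8.EssEt
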