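import Mathlib
import Groth.Agent.Lib.Helper8.EssEt.Inv
import Groth.Agent.Lib.Helper8.EssEt.ResEx2

universe u
open IsLocalRing TensorProduct Polynomial

namespace Groth.Agent.H8.EssEt

namespace EtSub

section InvSub

variable {A S : Type u} [CommRing A] [HenselianLocalRing A]
  [CommRing S] [IsLocalRing S] [Algebra A S] [IsLocalHom (algebraMap A S)]

/-- Galois invariants: if `Y` has normal residue field and `x ∈ Y.E` is fixed by every
`A`-automorphism of `Y.E` fixing `X.E` pointwise, then `x ∈ X.E`. -/
theorem mem_of_fixed (X Y : EtSub A S) (h : X.E ≤ Y.E) [Normal (ResidueField A) Y.resField]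
    (x : Y.E)
    (hx : ∀ σ : Y.E ≃ₐ[A] Y.E,
      (∀ f : X.E, σ (Subalgebra.inclusion h f) = Subalgebra.inclusion h f) → σ x = x) :
    (x : S) ∈ X.E := by
  letI : Algebra X.E Y.E := (Subalgebra.inclusion h).toRingHom.toAlgebra
  haveI : IsScalarTower A X.E Y.E :=
    IsScalarTower.of_algebraMap_eq' (Subalgebra.inclusion h).comp_algebraMap.symm
  haveI hloc : IsLocalHom (algebraMap X.E Y.E) :=
    isLocalHom_of_algHom X.ess (Subalgebra.inclusion h)
  haveI := X.etale
  haveI := Y.etale
  haveI : Algebra.Etale X.E Y.E := Algebra.Etale.of_restrictScalars A X.E Y.E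
  haveI := Y.finite
  haveI : Module.Finite X.E Y.E := Module.Finite.of_restrictScalars_finite A X.E Y.E
  have HB := Y.henselian
  haveI : IsScalarTower (ResidueField A) (ResidueField X.E) (ResidueField Y.E) :=
    IsScalarTower.of_algebraMap_eq' (by
      ext z
      obtain ⟨a, rfl⟩ := residue_surjective z
      rfl)
  haveI : Normal (ResidueField A) (ResidueField Y.E) := Normal.of_algEquiv Y.resEquiv.symm
  haveI : Normal (ResidueField X.E) (ResidueField Y.E) :=
    Normal.tower_top_of_normal (ResidueField A) (ResidueField X.E) (ResidueField Y.E)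
  obtain ⟨c, hc⟩ := exists_algebraMap_eq_of_fixed X.E Y.E HB x (fun σ => by
    apply hx (σ.restrictScalars A)
    intro f
    exact σ.commutes f)
  have : (x : S) = (c : S) := by
    rw [← hc]
    rfl
  rw [this]
  exact c.2

end InvSub

end EtSub

end Groth.Agent.H8.EssEt
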