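import Mathlib
import Groth.Agent.Lib.Helper8.EssEt.InvSub

universe u
open IsLocalRing TensorProduct Polynomial

namespace Groth.Agent.H8.EssEt

namespace EtSub

section ResHom

variable {A B : Type u} [CommRing A] [IsLocalRing A] [CommRing B] [IsLocalRing B] [Algebra A B]
  [IsLocalHom (algebraMap A B)]

/-- The automorphism of the residue field induced by an automorphism. -/
noncomputable def resAut (σ : B ≃ₐ[A] B) :
    ResidueField B ≃ₐ[ResidueField A] ResidueField B :=
  { ResidueField.mapEquiv σ.toRingEquiv with
    commutes' := fun z => by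
      obtain ⟨a, rfl⟩ := residue_surjective z
      show ResidueField.map (σ.toRingEquiv : B →+* B)
        (ResidueField.map (algebraMap A B) (residue A a)) =
          ResidueField.map (algebraMap A B) (residue A a)
      simp only [ResidueField.map_residue]
      congr 1
      exact σ.commutes a }

@[simp]
theorem resAut_residue (σ : B ≃ₐ[A] B) (b : B) : resAut σ (residue B b) = residue B (σ b) := rfl

/-- The residue homomorphism on automorphism groups. -/
noncomputable def resHom : (B ≃ₐ[A] B) →* (ResidueField B ≃ₐ[ResidueField A] ResidueField B) where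
  toFun := resAut
  map_one' := by
    ext z
    obtain ⟨b, rfl⟩ := residue_surjective z
    rfl
  map_mul' σ τ := by
    ext z
    obtain ⟨b, rfl⟩ := residue_surjective z
    rfl

@[simp]
theorem resHom_apply (σ : B ≃ₐ[A] B) : resHom σ = resAut σ := rfl

theorem resHom_injective (hB : EGA4loc.IsEssentiallyEtale A B) :
    Function.Injective (resHom : (B ≃ₐ[A] B) →* _) := by
  intro σ τ h
  have : (σ : B →ₐ[A] B) = τ := by
    apply algHom_ext_of_residue hB
    intro b
    have := congrArg (fun w => w (residue B b)) h
    exact this
  exact AlgEquiv.coe_toAlgHom_injective this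

end ResHom

section FixedRing

variable {A S : Type u} [CommRing A] [HenselianLocalRing A]
  [CommRing S] [IsLocalRing S] [Algebra A S] [IsLocalHom (algebraMap A S)]
  [hS : Hensel.IsStrictHenselization A S]

include hS in
/-- The ring of invariants of a subgroup of the automorphism group of a Galois essentially
étale subalgebra is an essentially étale subalgebra. -/
theorem exists_fixed (Y : EtSub A S) [Normal (ResidueField A) Y.resField]
    (H : Subgroup (Y.E ≃ₐ[A] Y.E)) :
    ∃ X : EtSub A S, X.E ≤ Y.E ∧ ∀ x : Y.E, ((x : S) ∈ X.E ↔ ∀ σ ∈ H, σ x = x) := by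
  haveI := essFiniteType Y.ess
  haveI := formallyUnramified Y.ess
  haveI : FiniteDimensional (ResidueField A) (ResidueField Y.E) := inferInstance
  let N : IntermediateField (ResidueField A) (ResidueField Y.E) :=
    IntermediateField.fixedField (H.map resHom)
  let N' : IntermediateField (ResidueField A) (ResidueField S) := N.map Y.resMap
  haveI : FiniteDimensional (ResidueField A) N' :=
    Module.Finite.equiv (N.equivMap Y.resMap).toLinearEquiv
  obtain ⟨X, hX⟩ := exists_resField_eq A S N'
  have hN'le : N' ≤ Y.resField := by
    rintro y ⟨n, -, rfl⟩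
    exact ⟨n, rfl⟩
  have hle : X.E ≤ Y.E := le_of_resField_le X Y (hX ▸ hN'le)
  -- residues of elements of `X.E` lie in `N`
  have hresN : ∀ f : X.E, residue Y.E (Subalgebra.inclusion hle f) ∈ N := by
    intro f
    have h1 : residue S (f : S) ∈ X.resField := (mem_resField_iff X _).mpr ⟨f, rfl⟩
    rw [hX] at h1
    obtain ⟨n, hn, hn'⟩ := h1
    have h2 : Y.resMap n = Y.resMap (residue Y.E (Subalgebra.inclusion hle f)) := by
      rw [resMap_residue]
      exact hn'
    rw [← Y.resMap.injective h2]
    exact hn
  have hNres : ∀ n ∈ N, ∃ f : X.E, residue Y.E (Subalgebra.inclusion hle f) = n := by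
    intro n hn
    have h1 : Y.resMap n ∈ X.resField := by
      rw [hX]
      exact ⟨n, hn, rfl⟩
    obtain ⟨f, hf⟩ := (mem_resField_iff X _).mp h1
    refine ⟨f, ?_⟩
    apply Y.resMap.injective
    show Y.resMap (residue Y.E (Subalgebra.inclusion hle f)) = Y.resMap n
    rw [resMap_residue]
    exact hf
  refine ⟨X, hle, fun x => ⟨?_, ?_⟩⟩
  · intro hxX σ hσ
    -- two maps `X.E → S`
    let u : X.E →ₐ[A] S := (Y.E.val.comp (σ : Y.E →ₐ[A] Y.E)).comp (Subalgebra.inclusion hle)
    have huv : u = X.E.val := by
      apply algHom_ext_of_residue X.ess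
      intro f
      show residue S ((σ (Subalgebra.inclusion hle f) : Y.E) : S) = residue S (f : S)
      rw [← resMap_residue Y, ← resAut_residue]
      have h1 := hresN f
      have h2 : resAut σ (residue Y.E (Subalgebra.inclusion hle f)) =
          residue Y.E (Subalgebra.inclusion hle f) := by
        have := (IntermediateField.mem_fixedField_iff _ _).mp h1 (resHom σ)
          (Subgroup.mem_map_of_mem _ hσ)
        exact this
      rw [h2, resMap_residue]
      rfl
    have := congrArg (fun w => w ⟨(x : S), hxX⟩) huv
    apply Subtype.ext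
    exact this
  · intro hx
    haveI : Normal (ResidueField A) Y.resField := inferInstance
    apply mem_of_fixed X Y hle x
    intro σ hσ
    apply hx
    have h1 : resHom σ ∈ IntermediateField.fixingSubgroup N := by
      rw [IntermediateField.mem_fixingSubgroup_iff]
      intro n hn
      obtain ⟨f, rfl⟩ := hNres n hn
      show resAut σ _ = _
      rw [resAut_residue, hσ]
    rw [IntermediateField.fixingSubgroup_fixedField] at h1
    obtain ⟨τ, hτ, hτσ⟩ := h1
    rw [← resHom_injective Y.ess hτσ]
    exact hτ

end FixedRing

end EtSub

end Groth.Agent.H8.EssEt
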