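import Mathlib
import Groth.Agent.Lib.Helper8.EssEt.FixedRing
import Groth.Agent.Lib.Helper8.EssEt.FT

universe u
open IsLocalRing TensorProduct Polynomial
open scoped nonZeroDivisors

namespace Groth.Agent.H8.EssEt

open EtSub

attribute [local instance] FractionRing.liftAlgebra

section Main34

variable (A S : Type u) [CommRing A] [HenselianLocalRing A] [IsDomain A]
  [CommRing S] [IsLocalRing S] [Algebra A S] [IsLocalHom (algebraMap A S)]
  [hS : Hensel.IsStrictHenselization A S] [IsDomain S]

local notation "K" => FractionRing S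

include hS in
theorem exists_etSub_eq_preimage (t : Finset (FractionRing S)) :
    ∃ X : EtSub A S, (X.E : Set S) = (algebraMap S (FractionRing S)) ⁻¹'
      (Subfield.closure (Set.range (algebraMap A (FractionRing S)) ∪
        (t : Set (FractionRing S))) : Set (FractionRing S)) := by
  classical
  obtain ⟨L, hL⟩ : ∃ L : Subfield K, L = Subfield.closure (Set.range (algebraMap A K) ∪
    (t : Set K)) := ⟨_, rfl⟩
  rw [← hL]
  -- numerators and denominators
  have hnd : ∀ τ : K, ∃ n d : S, d ≠ 0 ∧ τ = algebraMap S K n / algebraMap S K d := by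
    intro τ
    obtain ⟨x, y, hy, rfl⟩ := IsFractionRing.div_surjective (A := S) τ
    exact ⟨x, y, nonZeroDivisors.ne_zero hy, rfl⟩
  choose n d hd hτ using hnd
  obtain ⟨X₀, hX₀⟩ := exists_mem_finset A S (t.image n ∪ t.image d)
  obtain ⟨Y, hXY, hnorm⟩ := exists_normal_ge A S X₀
  haveI := hnorm
  have hnY : ∀ τ ∈ t, n τ ∈ Y.E := fun τ hτ' => hXY (hX₀ (by
    simp only [Finset.coe_union, Finset.coe_image, Set.mem_union, Set.mem_image, Finset.mem_coe]
    exact Or.inl ⟨τ, hτ', rfl⟩))
  have hdY : ∀ τ ∈ t, d τ ∈ Y.E := fun τ hτ' => hXY (hX₀ (by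
    simp only [Finset.coe_union, Finset.coe_image, Set.mem_union, Set.mem_image, Finset.mem_coe]
    exact Or.inr ⟨τ, hτ', rfl⟩))
  -- the rings
  haveI hff : Module.FaithfullyFlat A S := Hens.faithfullyFlat_of_isStrictHenselization (R := A) S
  have hinjAS : Function.Injective (algebraMap A S) := FaithfulSMul.algebraMap_injective A S
  haveI : FaithfulSMul A Y.E := (faithfulSMul_iff_algebraMap_injective A Y.E).mpr (by
    intro a a' h
    apply hinjAS
    have := congrArg (fun w : Y.E => (w : S)) h
    exact this)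
  haveI hfinB : Module.Finite A Y.E := Y.finite
  haveI := Y.etale
  have HB := Y.henselian
  haveI : Normal (ResidueField A) (ResidueField Y.E) := Normal.of_algEquiv Y.resEquiv.symm
  have hfix : ∀ b : Y.E, (∀ σ : Y.E ≃ₐ[A] Y.E, σ b = b) → ∃ a : A, algebraMap A Y.E a = b :=
    fun b hb => exists_algebraMap_eq_of_fixed A Y.E HB b hb
  -- the embedding of fraction fields
  have hinjBK : Function.Injective ((algebraMap S K).comp (algebraMap Y.E S)) :=
    (IsFractionRing.injective S K).comp Subtype.val_injective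
  let ι : FractionRing Y.E →+* K := IsFractionRing.lift hinjBK
  have hι : ∀ b : Y.E, ι (algebraMap Y.E (FractionRing Y.E) b) = algebraMap S K (b : S) :=
    fun b => IsFractionRing.lift_algebraMap hinjBK b
  have hιA : ∀ a : A, ι (algebraMap A (FractionRing Y.E) a) = algebraMap A K a := by
    intro a
    rw [IsScalarTower.algebraMap_apply A Y.E (FractionRing Y.E), hι,
      IsScalarTower.algebraMap_apply A S K]
    rfl
  -- the intermediate field
  let L' : IntermediateField (FractionRing A) (FractionRing Y.E) :=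
    IntermediateField.adjoin (FractionRing A) {y | ι y ∈ (t : Set K)}
  have hAL : ∀ a : A, algebraMap A K a ∈ L := fun a => by
    rw [hL]; exact Subfield.subset_closure (Or.inl ⟨a, rfl⟩)
  have htL : ∀ τ ∈ t, τ ∈ L := fun τ hτ' => by
    rw [hL]; exact Subfield.subset_closure (Or.inr hτ')
  have hL'L : ∀ y ∈ L', ι y ∈ L := by
    intro y hy
    induction hy using IntermediateField.adjoin_induction with
    | mem y hy => exact htL _ hy
    | algebraMap c =>
      obtain ⟨a, a', ha', rfl⟩ := IsFractionRing.div_surjective (A := A) c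
      rw [map_div₀, ← IsScalarTower.algebraMap_apply, ← IsScalarTower.algebraMap_apply,
        map_div₀, hιA, hιA]
      exact L.div_mem (hAL a) (hAL a')
    | add x y _ _ hx hy => rw [map_add]; exact L.add_mem hx hy
    | inv x _ hx => rw [map_inv₀]; exact L.inv_mem hx
    | mul x y _ _ hx hy => rw [map_mul]; exact L.mul_mem hx hy
  have htrange : ∀ τ ∈ t, ∃ y : FractionRing Y.E, ι y = τ := by
    intro τ hτ'
    refine ⟨algebraMap Y.E _ ⟨n τ, hnY τ hτ'⟩ / algebraMap Y.E _ ⟨d τ, hdY τ hτ'⟩, ?_⟩
    rw [map_div₀, hι, hι]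
    exact (hτ τ).symm
  have hLL' : ∀ z ∈ L, ∃ y ∈ L', ι y = z := by
    have hle : L ≤ (L'.toSubfield).map ι := by
      rw [hL, Subfield.closure_le]
      rintro z (⟨a, rfl⟩ | hz)
      · refine ⟨algebraMap A _ a, ?_, hιA a⟩
        rw [IsScalarTower.algebraMap_apply A (FractionRing A) (FractionRing Y.E)]
        exact L'.algebraMap_mem _
      · obtain ⟨y, rfl⟩ := htrange z hz
        exact ⟨y, IntermediateField.subset_adjoin _ _ hz, rfl⟩
    intro z hz
    obtain ⟨y, hy, rfl⟩ := hle hz
    exact ⟨y, hy, rfl⟩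
  -- elements of `S` landing in `L` are in `B`
  haveI hffB : Module.FaithfullyFlat Y.E S := faithfullyFlat_of_essEtale A S Y.E Y.ess
  have hSB : ∀ x : S, algebraMap S K x ∈ L → x ∈ Y.E := by
    intro x hx
    obtain ⟨y, -, hy⟩ := hLL' _ hx
    obtain ⟨b, a, ha, hya⟩ := exists_eq_div (A := A) (B := Y.E) (FractionRing Y.E) y
    have h1 : x * algebraMap A S a = (b : S) := by
      apply IsFractionRing.injective S K
      rw [map_mul, ← hy, ← hι, ← hya, map_mul, hιA, IsScalarTower.algebraMap_apply A S K]
    have h2 : b ∈ ((Ideal.span {algebraMap A Y.E a}).map (algebraMap Y.E S)).comap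
        (algebraMap Y.E S) := by
      rw [Ideal.mem_comap, Ideal.map_span, Set.image_singleton, Ideal.mem_span_singleton']
      refine ⟨x, ?_⟩
      rw [← IsScalarTower.algebraMap_apply]
      exact h1
    rw [Ideal.comap_map_eq_self_of_faithfullyFlat, Ideal.mem_span_singleton'] at h2
    obtain ⟨b', hb'⟩ := h2
    have h3 : (b' : S) * algebraMap A S a = x * algebraMap A S a := by
      rw [h1, ← hb']
      rfl
    have ha0 : algebraMap A S a ≠ 0 := by
      intro h0
      exact ha (hinjAS (by rw [h0, map_zero]))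
    rw [← mul_right_cancel₀ ha0 h3]
    exact b'.2
  -- the subgroup
  let H : Subgroup (Y.E ≃ₐ[A] Y.E) := (IntermediateField.fixingSubgroup L').comap
    (IsFractionRing.fieldEquivOfAlgEquivHom (FractionRing A) (FractionRing Y.E))
  obtain ⟨X, hXle, hX⟩ := exists_fixed Y H
  refine ⟨X, ?_⟩
  ext x
  simp only [SetLike.mem_coe, Set.mem_preimage]
  constructor
  · intro hxX
    have hxY : x ∈ Y.E := hXle hxX
    have h1 := (hX ⟨x, hxY⟩).mp hxX
    have h2 := (mem_iff_fixed (FractionRing A) (FractionRing Y.E) hfix L' ⟨x, hxY⟩).mpr h1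
    have := hL'L _ h2
    rwa [hι] at this
  · intro hx
    have hxY : x ∈ Y.E := hSB x hx
    apply (hX ⟨x, hxY⟩).mpr
    apply (mem_iff_fixed (FractionRing A) (FractionRing Y.E) hfix L' ⟨x, hxY⟩).mp
    obtain ⟨y, hy, hyx⟩ := hLL' _ hx
    have : y = algebraMap Y.E (FractionRing Y.E) ⟨x, hxY⟩ := by
      apply ι.injective
      rw [hyx, hι]
    rw [← this]
    exact hy

end Main34

end Groth.Agent.H8.EssEt
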