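import Mathlib
import Groth.Agent.Lib.Helper8.EssEt.Main34
import Groth.Agent.Lib.Helper8.Hens.StrictQuot
import Groth.Agent.Lib.Helper8.Hens.QuotHens

universe u
open IsLocalRing TensorProduct Polynomial
open scoped nonZeroDivisors

namespace Groth.Agent.H8.EssEt

open EtSub Groth.Agent.H8.Hens Groth.Agent.H8.Hens.UMP

section QuotCore

variable (B S : Type u) [CommRing B] [HenselianLocalRing B]
  [CommRing S] [IsLocalRing S] [Algebra B S] [IsLocalHom (algebraMap B S)]
  [hS : Hensel.IsStrictHenselization B S] (P : Ideal B)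

local notation "Q" => Ideal.map (algebraMap B S) P

include hS in
/-- Core lemma for a quotient by an extended prime. -/
theorem exists_etSub_quotient_aux [P.IsPrime]
    [hQp : (P.map (algebraMap B S)).IsPrime]
    (t : Finset (FractionRing (S ⧸ P.map (algebraMap B S)))) :
    ∃ X : EtSub B S, ∀ x : S,
      algebraMap (S ⧸ P.map (algebraMap B S)) (FractionRing (S ⧸ P.map (algebraMap B S)))
          (Ideal.Quotient.mk (P.map (algebraMap B S)) x) ∈
        Subfield.closure (Set.range (algebraMap B (FractionRing (S ⧸ P.map (algebraMap B S)))) ∪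
          (t : Set (FractionRing (S ⧸ P.map (algebraMap B S))))) →
      ∃ e ∈ X.E, Ideal.Quotient.mk (P.map (algebraMap B S)) e =
        Ideal.Quotient.mk (P.map (algebraMap B S)) x := by
  classical
  have hPne : P ≠ ⊤ := Ideal.IsPrime.ne_top'
  have hQne : Q ≠ ⊤ := Ideal.IsPrime.ne_top'
  haveI : IsLocalRing (B ⧸ P) := isLocalRing_quotient _ hPne
  haveI : IsLocalRing (S ⧸ Q) := isLocalRing_quotient _ hQne
  haveI : IsLocalHom (algebraMap (B ⧸ P) (S ⧸ Q)) := isLocalHom_quotient (S := S) P
  haveI hSq : Hensel.IsStrictHenselization (B ⧸ P) (S ⧸ Q) :=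
    isStrictHenselization_quotient (A := B) (S := S) P
  haveI : HenselianLocalRing (B ⧸ P) := henselianLocalRing_quotient P
  haveI : IsDomain (B ⧸ P) := Ideal.Quotient.isDomain P
  haveI : IsDomain (S ⧸ Q) := Ideal.Quotient.isDomain Q
  obtain ⟨X', hX'⟩ := exists_etSub_eq_preimage (B ⧸ P) (S ⧸ Q) t
  -- the two subfields agree
  have hrange : Set.range (algebraMap (B ⧸ P) (FractionRing (S ⧸ Q))) =
      Set.range (algebraMap B (FractionRing (S ⧸ Q))) := by
    ext z
    constructor
    · rintro ⟨b, rfl⟩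
      obtain ⟨b, rfl⟩ := Ideal.Quotient.mk_surjective b
      exact ⟨b, by
        rw [IsScalarTower.algebraMap_apply B (B ⧸ P) (FractionRing (S ⧸ Q))]
        rfl⟩
    · rintro ⟨b, rfl⟩
      exact ⟨Ideal.Quotient.mk P b, by
        rw [IsScalarTower.algebraMap_apply B (B ⧸ P) (FractionRing (S ⧸ Q))]
        rfl⟩
  rw [hrange] at hX'
  -- generators of `X'.E`
  haveI hfin : Module.Finite (B ⧸ P) X'.E := X'.finite
  obtain ⟨gens, hgens⟩ := (Module.finite_def.mp hfin)
  choose lift hlift using fun y : S ⧸ Q => Ideal.Quotient.mk_surjective y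
  obtain ⟨X, hX⟩ := exists_mem_finset B S (gens.image (fun y : X'.E => lift (y : S ⧸ Q)))
  refine ⟨X, fun x hx => ?_⟩
  have hxX' : Ideal.Quotient.mk Q x ∈ X'.E := by
    have : Ideal.Quotient.mk Q x ∈ (X'.E : Set (S ⧸ Q)) := by
      rw [hX']
      exact hx
    exact this
  -- every element of `X'.E` is the image of an element of `X.E`
  have key : ∀ y : X'.E, ∃ e ∈ X.E, Ideal.Quotient.mk Q e = (y : S ⧸ Q) := by
    intro y
    have hy : y ∈ Submodule.span (B ⧸ P) (gens : Set X'.E) := by rw [hgens]; trivial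
    induction hy using Submodule.span_induction with
    | mem y hy =>
      refine ⟨lift (y : S ⧸ Q), hX ?_, hlift _⟩
      simp only [Finset.coe_image, Set.mem_image, Finset.mem_coe]
      exact ⟨y, hy, rfl⟩
    | zero => exact ⟨0, X.E.zero_mem, by simp⟩
    | add y z _ _ hy hz =>
      obtain ⟨e, he, hey⟩ := hy
      obtain ⟨f, hf, hfz⟩ := hz
      exact ⟨e + f, X.E.add_mem he hf, by rw [map_add, hey, hfz]; rfl⟩
    | smul c y _ hy =>
      obtain ⟨e, he, hey⟩ := hy
      obtain ⟨b, rfl⟩ := Ideal.Quotient.mk_surjective c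
      refine ⟨algebraMap B S b * e, X.E.mul_mem (X.E.algebraMap_mem b) he, ?_⟩
      rw [map_mul, hey, Subalgebra.coe_smul, Algebra.smul_def,
        Ideal.Quotient.algebraMap_quotient_map_quotient]
  exact key ⟨_, hxX'⟩

include hS in
/-- Core lemma for a quotient by an extended prime. -/
theorem exists_etSub_quotient [P.IsPrime] (Q' : Ideal S)
    (hQ : Q' = P.map (algebraMap B S)) [hQp : Q'.IsPrime] (t : Finset (FractionRing (S ⧸ Q'))) :
    ∃ X : EtSub B S, ∀ x : S,
      algebraMap (S ⧸ Q') (FractionRing (S ⧸ Q')) (Ideal.Quotient.mk Q' x) ∈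
        Subfield.closure (Set.range (algebraMap B (FractionRing (S ⧸ Q'))) ∪
          (t : Set (FractionRing (S ⧸ Q')))) →
      ∃ e ∈ X.E, Ideal.Quotient.mk Q' e = Ideal.Quotient.mk Q' x := by
  subst hQ
  exact exists_etSub_quotient_aux B S P t

end QuotCore

end Groth.Agent.H8.EssEt
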