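import Mathlib
import Groth.Agent.Lib.Helper8.EssEt.QuotCore
import Groth.Agent.Lib.Helper8.Hens.Noeth

universe u
open IsLocalRing TensorProduct Polynomial
open scoped nonZeroDivisors

namespace Groth.Agent.H8.EssEt

open EtSub Groth.Agent.H8.Hens

section Main46

variable (A S : Type u) [CommRing A] [HenselianLocalRing A] [IsNoetherianRing A]
  [CommRing S] [IsLocalRing S] [Algebra A S] [IsLocalHom (algebraMap A S)]
  [hS : Hensel.IsStrictHenselization A S]

include hS in
/-- There is an essentially étale subalgebra from which all the minimal primes over a given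
finite set of ideals are extended. -/
theorem exists_etSub_extended (J : Ideal S) (s : Finset S) :
    ∃ E₀ : EtSub A S, (s : Set S) ⊆ E₀.E ∧ ∀ E : Subalgebra A S, E₀.E ≤ E →
      ∀ Q' ∈ J.minimalPrimes, Q' = Ideal.map (algebraMap E S) (Q'.comap (algebraMap E S)) := by
  classical
  haveI : IsNoetherianRing S := (isNoetherianRing_iff_of_isStrictHenselization (R := A) S).mp ‹_›
  have hfin : J.minimalPrimes.Finite := Ideal.finite_minimalPrimes_of_isNoetherianRing S J
  have hfg : ∀ Q' : Ideal S, ∃ g : Finset S, Ideal.span (g : Set S) = Q' := fun Q' =>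
    (isNoetherianRing_iff_ideal_fg S).mp ‹_› Q'
  choose g hg using hfg
  obtain ⟨E₀, hE₀⟩ := exists_mem_finset A S (s ∪ hfin.toFinset.biUnion g)
  refine ⟨E₀, fun x hx => hE₀ (by simp [hx]), ?_⟩
  intro E hE Q' hQ'
  apply le_antisymm
  · rw [← hg Q', Ideal.span_le]
    intro x hx
    have hxE : x ∈ E := hE (hE₀ (by
      simp only [Finset.coe_union, Finset.coe_biUnion, Set.mem_union, Set.mem_iUnion,
        Finset.mem_coe, Set.Finite.mem_toFinset]
      exact Or.inr ⟨Q', hQ', hx⟩))
    have : x = algebraMap E S ⟨x, hxE⟩ := rfl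
    rw [this]
    apply Ideal.mem_map_of_mem
    rw [Ideal.mem_comap]
    exact Ideal.subset_span hx
  · exact Ideal.map_comap_le

include hS in
theorem main46 (Q : Ideal S) (hQ : Q ∈ minimalPrimes S) [Q.IsPrime]
    (t : Finset (FractionRing (S ⧸ Q))) :
    ∃ E : Subalgebra A S, ∃ _ : IsLocalRing E, EGA4loc.IsEssentiallyEtale A E ∧
      (∀ Q' ∈ ((Q.comap (algebraMap A S)).map (algebraMap A S)).minimalPrimes,
        Q' = Ideal.map (algebraMap E S) (Q'.comap (algebraMap E S))) ∧
      ∀ x : S, algebraMap (S ⧸ Q) (FractionRing (S ⧸ Q)) (Ideal.Quotient.mk Q x) ∈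
          Subfield.closure (Set.range (algebraMap A (FractionRing (S ⧸ Q))) ∪
            (t : Set (FractionRing (S ⧸ Q)))) →
        ∃ e ∈ E, Ideal.Quotient.mk Q e = Ideal.Quotient.mk Q x := by
  classical
  set J := (Q.comap (algebraMap A S)).map (algebraMap A S) with hJ
  obtain ⟨E₀, -, hE₀⟩ := exists_etSub_extended A S J ∅
  have hQJ : Q ∈ J.minimalPrimes := by
    refine ⟨⟨inferInstance, Ideal.map_comap_le⟩, fun R hR hRQ => hQ.2 ⟨hR.1, bot_le⟩ hRQ⟩
  haveI hSB : Hensel.IsStrictHenselization E₀.E S :=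
    isStrictHenselization_of_essEtale A S E₀.E E₀.ess
  haveI HB : HenselianLocalRing E₀.E := E₀.henselian
  let P₀ : Ideal E₀.E := Q.comap (algebraMap E₀.E S)
  haveI : P₀.IsPrime := Ideal.comap_isPrime _ _
  have hQeq : Q = P₀.map (algebraMap E₀.E S) := hE₀ E₀.E le_rfl Q hQJ
  obtain ⟨X, hX⟩ := exists_etSub_quotient E₀.E S P₀ Q hQeq t
  -- the subalgebra over `A`
  let E : Subalgebra A S := X.E.restrictScalars A
  have hE₀E : E₀.E ≤ E := by
    intro x hx
    exact X.E.algebraMap_mem ⟨x, hx⟩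
  haveI := E₀.etale
  haveI := X.etale
  haveI : Algebra.Etale A X.E := Algebra.Etale.comp A E₀.E X.E
  haveI : IsLocalHom (algebraMap A X.E) := by
    rw [IsScalarTower.algebraMap_eq A E₀.E X.E]
    exact RingHom.isLocalHom_comp _ _
  have hXA : EGA4loc.IsEssentiallyEtale A X.E := of_etale_local
  let e : X.E ≃ₐ[A] E := AlgEquiv.ofBijective
    { toFun := fun x => ⟨x.1, x.2⟩
      map_one' := rfl
      map_mul' := fun _ _ => rfl
      map_zero' := rfl
      map_add' := fun _ _ => rfl
      commutes' := fun _ => rfl }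
    ⟨fun x y h => Subtype.ext (congrArg Subtype.val h), fun y => ⟨⟨y.1, y.2⟩, rfl⟩⟩
  have hEA : EGA4loc.IsEssentiallyEtale A E := of_algEquiv e hXA
  refine ⟨E, isLocalRing hEA, hEA, hE₀ E hE₀E, ?_⟩
  intro x hx
  apply hX x
  refine Subfield.closure_mono ?_ hx
  apply Set.union_subset_union_left
  rintro _ ⟨a, rfl⟩
  exact ⟨algebraMap A E₀.E a, rfl⟩

end Main46

end Groth.Agent.H8.EssEt
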