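import Mathlib
import Groth.Agent.Lib.Helper8.EssEt.FixedRing

/-!
# Invariants modulo an ideal (helper8)
-/

universe u
open IsLocalRing TensorProduct Polynomial Matrix

namespace Groth.Agent.H8.EssEt

/-- Vandermonde argument modulo an ideal. -/
theorem mem_range_of_fixed_mod {F B : Type*} [CommRing F] [CommRing B] [Algebra F B] (d : ℕ)
    (β : B)
    (hspan : Submodule.span F (Set.range fun i : Fin (d + 1) => β ^ (i : ℕ)) = ⊤)
    (σ : Fin (d + 1) → (B →ₐ[F] B))
    (hunit : ∀ i j, i ≠ j → IsUnit (σ i β - σ j β))
    (P : Ideal B)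
    (x : B) (hx : ∀ i, σ i x - x ∈ P) : ∃ c : F, algebraMap F B c - x ∈ P := by
  classical
  have hxmem : x ∈ Submodule.span F (Set.range fun i : Fin (d + 1) => β ^ (i : ℕ)) := by
    rw [hspan]; trivial
  obtain ⟨c, hc⟩ := (Submodule.mem_span_range_iff_exists_fun F).mp hxmem
  let π := Ideal.Quotient.mk P
  -- the Vandermonde matrix
  let V : Matrix (Fin (d + 1)) (Fin (d + 1)) (B ⧸ P) :=
    Matrix.vandermonde (fun i => π (σ i β))
  have hdet : IsUnit V.det := by
    rw [Matrix.det_vandermonde]
    refine (IsUnit.prod_univ_iff).mpr fun i => ?_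
    refine IsUnit.prod_iff.mpr fun j hj => ?_
    rw [← map_sub]
    apply IsUnit.map
    apply hunit
    rw [Finset.mem_Ioi] at hj
    exact hj.ne'
  let v : Fin (d + 1) → B ⧸ P :=
    fun j => π (algebraMap F B (c j)) - if j = 0 then π x else 0
  have hVv : V.mulVec v = 0 := by
    funext i
    simp only [Matrix.mulVec, dotProduct, V, Matrix.vandermonde_apply, v, Pi.zero_apply]
    have h1 : σ i x = ∑ j, algebraMap F B (c j) * (σ i β) ^ (j : ℕ) := by
      rw [← hc, map_sum]
      refine Finset.sum_congr rfl fun j _ => ?_
      rw [Algebra.smul_def, map_mul, AlgHom.commutes, map_pow]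
    have h1' : π x = ∑ j, π (algebraMap F B (c j)) * (π (σ i β)) ^ (j : ℕ) := by
      have : π (σ i x) = π x := by
        rw [← sub_eq_zero, ← map_sub]
        exact Ideal.Quotient.eq_zero_iff_mem.mpr (hx i)
      rw [← this, h1, map_sum]
      refine Finset.sum_congr rfl fun j _ => ?_
      rw [map_mul, map_pow]
    have e1 : ∑ j : Fin (d + 1), (π (σ i β)) ^ (j : ℕ) * π (algebraMap F B (c j)) = π x := by
      rw [h1']
      exact Finset.sum_congr rfl fun j _ => mul_comm _ _
    have e2 : ∑ j : Fin (d + 1), (π (σ i β)) ^ (j : ℕ) * (if j = 0 then π x else 0) = π x := by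
      rw [Finset.sum_eq_single (0 : Fin (d + 1))]
      · simp
      · intro j _ hj
        rw [if_neg hj, mul_zero]
      · intro h
        exact absurd (Finset.mem_univ _) h
    simp only [mul_sub, Finset.sum_sub_distrib]
    rw [e1, e2, sub_self]
  have hv : v = 0 := by
    have hinj := Matrix.mulVec_injective_of_isUnit ((Matrix.isUnit_iff_isUnit_det V).mpr hdet)
    apply hinj
    rw [hVv, Matrix.mulVec_zero]
  refine ⟨c 0, ?_⟩
  have := congrFun hv 0
  simp only [v, if_true, Pi.zero_apply] at this
  rw [← map_sub] at this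
  exact Ideal.Quotient.eq_zero_iff_mem.mp this

section Inv

variable (F B : Type u) [CommRing F] [IsLocalRing F] [CommRing B] [IsLocalRing B] [Algebra F B]
  [IsLocalHom (algebraMap F B)] [Algebra.Etale F B] [Module.Finite F B]

/-- Mod-ideal version of `exists_algebraMap_eq_of_fixed`. -/
theorem exists_algebraMap_sub_mem_of_fixed (HB : HenselianLocalRing B)
    [Normal (ResidueField F) (ResidueField B)] (P : Ideal B)
    (x : B) (hx : ∀ σ : B ≃ₐ[F] B, σ x - x ∈ P) : ∃ c : F, algebraMap F B c - x ∈ P := by
  classical
  have hFB : EGA4loc.IsEssentiallyEtale F B := of_etale_local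
  haveI := essFiniteType hFB
  haveI := formallyUnramified hFB
  haveI hfin : Module.Finite (ResidueField F) (ResidueField B) := inferInstance
  haveI hsep : Algebra.IsSeparable (ResidueField F) (ResidueField B) := inferInstance
  haveI : IsGalois (ResidueField F) (ResidueField B) := ⟨⟩
  obtain ⟨θ, hθ⟩ := Field.exists_primitive_element (ResidueField F) (ResidueField B)
  obtain ⟨β, rfl⟩ := residue_surjective θ
  have hint : IsIntegral (ResidueField F) (residue B β) := Algebra.IsIntegral.isIntegral _
  -- the dimension
  set n := Module.finrank (ResidueField F) (ResidueField B) with hn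
  have hnpos : 0 < n := Module.finrank_pos
  obtain ⟨d, hd⟩ : ∃ d, n = d + 1 := ⟨n - 1, by omega⟩
  -- powers of the residue span
  have hspan : Submodule.span (ResidueField F)
      (Set.range fun i : Fin (d + 1) => (residue B β) ^ (i : ℕ)) = ⊤ := by
    let pb := IntermediateField.adjoin.powerBasis hint
    have hdim : pb.dim = d + 1 := by
      rw [← hd, hn]
      have h1 : Module.finrank (ResidueField F) (IntermediateField.adjoin (ResidueField F) {residue B β}) = pb.dim :=
        pb.finrank
      rw [← h1, hθ]
      exact IntermediateField.finrank_top'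
    rw [eq_top_iff]
    intro y _
    have hy : (⟨y, by rw [hθ]; trivial⟩ : (IntermediateField.adjoin (ResidueField F) {residue B β})) ∈
        Submodule.span (ResidueField F) (Set.range pb.basis) := by
      rw [pb.basis.span_eq]; trivial
    obtain ⟨c, hc⟩ := (Submodule.mem_span_range_iff_exists_fun _).mp hy
    have h2 := congrArg (fun w : (IntermediateField.adjoin (ResidueField F) {residue B β}) => (w : ResidueField B)) hc
    simp only [AddSubmonoidClass.coe_finsetSum, IntermediateField.coe_smul,
      PowerBasis.coe_basis, SubmonoidClass.coe_pow, IntermediateField.adjoin.powerBasis_gen,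
      IntermediateField.AdjoinSimple.coe_gen] at h2
    rw [← h2]
    refine Submodule.sum_mem _ fun i _ => Submodule.smul_mem _ _ (Submodule.subset_span ?_)
    exact ⟨Fin.cast hdim i, rfl⟩
  have hm : (maximalIdeal F).map (algebraMap F B) = maximalIdeal B := map_maximalIdeal hFB
  have hspanB := span_pow_eq_top hm β (d + 1) hspan
  -- the automorphisms
  have hcard : Fintype.card (ResidueField B ≃ₐ[ResidueField F] ResidueField B) = d + 1 := by
    rw [← hd, hn, ← Nat.card_eq_fintype_card]
    exact IsGalois.card_aut_eq_finrank (ResidueField F) (ResidueField B)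
  let e : Fin (d + 1) ≃ (ResidueField B ≃ₐ[ResidueField F] ResidueField B) :=
    (Fintype.equivFinOfCardEq hcard).symm
  have hlift : ∀ i, ∃ g : B ≃ₐ[F] B, ∀ b, residue B (g b) = e i (residue B b) := by
    intro i
    exact exists_algEquiv_of_residue_equiv hFB hFB HB HB (e i).toRingEquiv (fun a => by
      show e i (residue B (algebraMap F B a)) = _
      have : residue B (algebraMap F B a) =
          algebraMap (ResidueField F) (ResidueField B) (residue F a) := rfl
      rw [this, (e i).commutes])
  choose g hg using hlift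
  have hunit : ∀ i j, i ≠ j → IsUnit ((g i : B →ₐ[F] B) β - (g j : B →ₐ[F] B) β) := by
    intro i j hij
    by_contra hnu
    apply hij
    apply e.injective
    have h0 : residue B (g i β - g j β) = 0 := (residue_eq_zero_iff _).mpr hnu
    rw [map_sub, hg, hg, sub_eq_zero] at h0
    have hadj : Algebra.adjoin (ResidueField F) {residue B β} = ⊤ := by
      have := IntermediateField.adjoin_simple_toSubalgebra_of_isAlgebraic hint.isAlgebraic
      rw [← this, hθ]
      rfl
    have : (e i : ResidueField B →ₐ[ResidueField F] ResidueField B) = e j := by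
      apply AlgHom.ext_of_adjoin_eq_top hadj
      intro y hy
      rw [Set.mem_singleton_iff] at hy
      rw [hy]
      exact h0
    exact AlgEquiv.coe_toAlgHom_injective this
  exact mem_range_of_fixed_mod d β hspanB (fun i => (g i : B →ₐ[F] B)) hunit P x
    (fun i => hx (g i))

end Inv

namespace EtSub

section InvSub

variable {A S : Type u} [CommRing A] [HenselianLocalRing A]
  [CommRing S] [IsLocalRing S] [Algebra A S] [IsLocalHom (algebraMap A S)]

/-- Galois invariants modulo an ideal. -/
theorem exists_sub_mem_of_fixed (X Y : EtSub A S) (h : X.E ≤ Y.E)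
    [Normal (ResidueField A) Y.resField] (P : Ideal Y.E)
    (x : Y.E)
    (hx : ∀ σ : Y.E ≃ₐ[A] Y.E,
      (∀ f : X.E, σ (Subalgebra.inclusion h f) = Subalgebra.inclusion h f) → σ x - x ∈ P) :
    ∃ c : X.E, Subalgebra.inclusion h c - x ∈ P := by
  letI : Algebra X.E Y.E := (Subalgebra.inclusion h).toRingHom.toAlgebra
  haveI : IsScalarTower A X.E Y.E :=
    IsScalarTower.of_algebraMap_eq' (Subalgebra.inclusion h).comp_algebraMap.symm
  haveI hloc : IsLocalHom (algebraMap X.E Y.E) :=
    isLocalHom_of_algHom X.ess (Subalgebra.inclusion h)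
  haveI := X.etale
  haveI := Y.etale
  haveI : Algebra.Etale X.E Y.E := Algebra.Etale.of_restrictScalars A X.E Y.E
  haveI := Y.finite
  haveI : Module.Finite X.E Y.E := Module.Finite.of_restrictScalars_finite A X.E Y.E
  have HB := Y.henselian
  haveI : IsScalarTower (ResidueField A) (ResidueField X.E) (ResidueField Y.E) :=
    IsScalarTower.of_algebraMap_eq' (by
      ext z
      obtain ⟨a, rfl⟩ := residue_surjective z
      rfl)
  haveI : Normal (ResidueField A) (ResidueField Y.E) := Normal.of_algEquiv Y.resEquiv.symm
  haveI : Normal (ResidueField X.E) (ResidueField Y.E) :=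
    Normal.tower_top_of_normal (ResidueField A) (ResidueField X.E) (ResidueField Y.E)
  obtain ⟨c, hc⟩ := exists_algebraMap_sub_mem_of_fixed X.E Y.E HB P x (fun σ => by
    apply hx (σ.restrictScalars A)
    intro f
    exact σ.commutes f)
  exact ⟨c, hc⟩

end InvSub

section FixedRing

variable {A S : Type u} [CommRing A] [HenselianLocalRing A]
  [CommRing S] [IsLocalRing S] [Algebra A S] [IsLocalHom (algebraMap A S)]
  [hS : Hensel.IsStrictHenselization A S]

include hS in
/-- The ring of invariants of a subgroup, with the Galois correspondence. -/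
theorem exists_fixed' (Y : EtSub A S) [Normal (ResidueField A) Y.resField]
    (H : Subgroup (Y.E ≃ₐ[A] Y.E)) :
    ∃ X : EtSub A S, ∃ hle : X.E ≤ Y.E, (∀ x : Y.E, ((x : S) ∈ X.E ↔ ∀ σ ∈ H, σ x = x)) ∧
      ∀ σ : Y.E ≃ₐ[A] Y.E,
        (∀ f : X.E, σ (Subalgebra.inclusion hle f) = Subalgebra.inclusion hle f) → σ ∈ H := by
  haveI := essFiniteType Y.ess
  haveI := formallyUnramified Y.ess
  haveI : FiniteDimensional (ResidueField A) (ResidueField Y.E) := inferInstance
  let N : IntermediateField (ResidueField A) (ResidueField Y.E) :=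
    IntermediateField.fixedField (H.map resHom)
  let N' : IntermediateField (ResidueField A) (ResidueField S) := N.map Y.resMap
  haveI : FiniteDimensional (ResidueField A) N' :=
    Module.Finite.equiv (N.equivMap Y.resMap).toLinearEquiv
  obtain ⟨X, hX⟩ := exists_resField_eq A S N'
  have hN'le : N' ≤ Y.resField := by
    rintro y ⟨n, -, rfl⟩
    exact ⟨n, rfl⟩
  have hle : X.E ≤ Y.E := le_of_resField_le X Y (hX ▸ hN'le)
  -- residues of elements of `X.E` lie in `N`
  have hresN : ∀ f : X.E, residue Y.E (Subalgebra.inclusion hle f) ∈ N := by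
    intro f
    have h1 : residue S (f : S) ∈ X.resField := (mem_resField_iff X _).mpr ⟨f, rfl⟩
    rw [hX] at h1
    obtain ⟨n, hn, hn'⟩ := h1
    have h2 : Y.resMap n = Y.resMap (residue Y.E (Subalgebra.inclusion hle f)) := by
      rw [resMap_residue]
      exact hn'
    rw [← Y.resMap.injective h2]
    exact hn
  have hNres : ∀ n ∈ N, ∃ f : X.E, residue Y.E (Subalgebra.inclusion hle f) = n := by
    intro n hn
    have h1 : Y.resMap n ∈ X.resField := by
      rw [hX]
      exact ⟨n, hn, rfl⟩
    obtain ⟨f, hf⟩ := (mem_resField_iff X _).mp h1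
    refine ⟨f, ?_⟩
    apply Y.resMap.injective
    show Y.resMap (residue Y.E (Subalgebra.inclusion hle f)) = Y.resMap n
    rw [resMap_residue]
    exact hf
  have hmemH : ∀ σ : Y.E ≃ₐ[A] Y.E,
      (∀ f : X.E, σ (Subalgebra.inclusion hle f) = Subalgebra.inclusion hle f) → σ ∈ H := by
    intro σ hσ
    have h1 : resHom σ ∈ IntermediateField.fixingSubgroup N := by
      rw [IntermediateField.mem_fixingSubgroup_iff]
      intro n hn
      obtain ⟨f, rfl⟩ := hNres n hn
      show resAut σ _ = _
      rw [resAut_residue, hσ]
    rw [IntermediateField.fixingSubgroup_fixedField] at h1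
    obtain ⟨τ, hτ, hτσ⟩ := h1
    rw [← resHom_injective Y.ess hτσ]
    exact hτ
  refine ⟨X, hle, fun x => ⟨?_, ?_⟩, hmemH⟩
  · intro hxX σ hσ
    -- two maps `X.E → S`
    let u : X.E →ₐ[A] S := (Y.E.val.comp (σ : Y.E →ₐ[A] Y.E)).comp (Subalgebra.inclusion hle)
    have huv : u = X.E.val := by
      apply algHom_ext_of_residue X.ess
      intro f
      show residue S ((σ (Subalgebra.inclusion hle f) : Y.E) : S) = residue S (f : S)
      rw [← resMap_residue Y, ← resAut_residue]
      have h1 := hresN f
      have h2 : resAut σ (residue Y.E (Subalgebra.inclusion hle f)) =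
          residue Y.E (Subalgebra.inclusion hle f) := by
        have := (IntermediateField.mem_fixedField_iff _ _).mp h1 (resHom σ)
          (Subgroup.mem_map_of_mem _ hσ)
        exact this
      rw [h2, resMap_residue]
      rfl
    have := congrArg (fun w => w ⟨(x : S), hxX⟩) huv
    apply Subtype.ext
    exact this
  · intro hx
    haveI : Normal (ResidueField A) Y.resField := inferInstance
    apply mem_of_fixed X Y hle x
    intro σ hσ
    exact hx σ (hmemH σ hσ)

end FixedRing

end EtSub

end Groth.Agent.H8.EssEt
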