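import Mathlib

/-!
# Galois theory of a quotient by a prime of an invariant extension (helper8)
-/

open scoped Pointwise

namespace Groth.Agent.H8.EssEt

section QGal

variable {A B : Type*} [CommRing A] [CommRing B] [Algebra A B]
  (G : Type*) [Group G] [Finite G] [MulSemiringAction G B] [SMulCommClass G A B]
  (p : Ideal A) (P : Ideal B) [P.IsPrime] [P.LiesOver p]
  (K L : Type*) [Field K] [Field L]
  [Algebra (A ⧸ p) K] [Algebra (B ⧸ P) L]
  [Algebra (A ⧸ p) L] [IsScalarTower (A ⧸ p) (B ⧸ P) L]
  [Algebra K L] [IsScalarTower (A ⧸ p) K L]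
  [Algebra.IsInvariant A B G]
  [IsFractionRing (A ⧸ p) K] [IsFractionRing (B ⧸ P) L]

theorem mem_intermediateField_iff [Algebra.IsSeparable K L] (M : IntermediateField K L) (b : B) :
    algebraMap (B ⧸ P) L (Ideal.Quotient.mk P b) ∈ M ↔
      ∀ g : MulAction.stabilizer G P,
        IsFractionRing.stabilizerHom G p P K L g ∈ M.fixingSubgroup → g.1 • b - b ∈ P := by
  haveI : p.IsPrime := Ideal.over_def P p ▸ Ideal.IsPrime.under A P
  haveI : Normal K L := Ideal.IsFractionRing.normal G p P K L
  haveI : IsGalois K L := ⟨⟩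
  haveI : FiniteDimensional K L := Ideal.IsFractionRing.finite_of_isInvariant G p P K L
  constructor
  · intro hb g hg
    have h1 := (IntermediateField.mem_fixingSubgroup_iff _ _).mp hg _ hb
    rw [IsFractionRing.stabilizerHom_apply_apply_mk] at h1
    have h2 := IsFractionRing.injective (B ⧸ P) L h1
    rw [← Ideal.Quotient.eq_zero_iff_mem, map_sub, h2, sub_self]
  · intro h
    rw [← IsGalois.fixedField_fixingSubgroup M, IntermediateField.mem_fixedField_iff]
    intro f hf
    obtain ⟨g, rfl⟩ := IsFractionRing.stabilizerHom_surjective G p P K L f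
    rw [IsFractionRing.stabilizerHom_apply_apply_mk]
    congr 1
    rw [← sub_eq_zero, ← map_sub]
    exact Ideal.Quotient.eq_zero_iff_mem.mpr (h g hf)

end QGal

end Groth.Agent.H8.EssEt
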