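import Mathlib
import Groth.Agent.Lib.Helper8.EssEt.Main46
import Groth.Agent.Lib.Helper8.EssEt.ModFix
import Groth.Agent.Lib.Helper8.EssEt.QGal
import Groth.Agent.Lib.Helper8.EssEt.FT

universe u
open IsLocalRing TensorProduct Polynomial
open scoped nonZeroDivisors Pointwise

namespace Groth.Agent.H8.EssEt

open EtSub Groth.Agent.H8.Hens

section Core40

variable (A S : Type u) [CommRing A] [HenselianLocalRing A]
  [CommRing S] [IsLocalRing S] [Algebra A S] [IsLocalHom (algebraMap A S)]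
  [hS : Hensel.IsStrictHenselization A S]

include hS in
/-- Galois descent modulo a prime: for a Galois essentially étale subalgebra `Y` and a subfield `Λ`
of the fraction field of `S ⧸ Q` containing the image of `A`, there is an essentially étale
subalgebra `X ≤ Y` whose image in `S ⧸ Q` is the set of elements of the image of `Y` lying in
`Λ`. -/
theorem core40 (Y : EtSub A S) [Normal (ResidueField A) Y.resField] (Q : Ideal S) [Q.IsPrime]
    (Λ : Subfield (FractionRing (S ⧸ Q)))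
    (hΛ : ∀ a : A, algebraMap A (FractionRing (S ⧸ Q)) a ∈ Λ) :
    ∃ X : EtSub A S, X.E ≤ Y.E ∧
      (∀ x ∈ X.E, algebraMap (S ⧸ Q) (FractionRing (S ⧸ Q)) (Ideal.Quotient.mk Q x) ∈ Λ) ∧
      ∀ y ∈ Y.E, algebraMap (S ⧸ Q) (FractionRing (S ⧸ Q)) (Ideal.Quotient.mk Q y) ∈ Λ →
        ∃ c ∈ X.E, Ideal.Quotient.mk Q c = Ideal.Quotient.mk Q y := by
  classical
  haveI hfinB : Module.Finite A Y.E := Y.finite
  haveI := Y.etale
  have HB := Y.henselian
  haveI : Normal (ResidueField A) (ResidueField Y.E) := Normal.of_algEquiv Y.resEquiv.symm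
  haveI := essFiniteType Y.ess
  haveI := formallyUnramified Y.ess
  haveI : FiniteDimensional (ResidueField A) (ResidueField Y.E) := inferInstance
  haveI : Finite (Y.E ≃ₐ[A] Y.E) := Finite.of_injective resHom (resHom_injective Y.ess)
  haveI : Algebra.IsInvariant A Y.E (Y.E ≃ₐ[A] Y.E) :=
    ⟨fun b hb => exists_algebraMap_eq_of_fixed A Y.E HB b hb⟩
  -- the ideals
  obtain ⟨P, hP⟩ : ∃ P : Ideal Y.E, P = Q.comap (algebraMap Y.E S) := ⟨_, rfl⟩
  obtain ⟨q, hq⟩ : ∃ q : Ideal A, q = P.under A := ⟨_, rfl⟩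
  haveI : P.IsPrime := hP ▸ Ideal.comap_isPrime _ _
  haveI : P.LiesOver q := ⟨hq⟩
  haveI : q.IsPrime := hq ▸ Ideal.IsPrime.under A P
  -- the fields
  haveI : IsDomain (A ⧸ q) := Ideal.Quotient.isDomain q
  haveI : IsDomain (Y.E ⧸ P) := Ideal.Quotient.isDomain P
  haveI : FaithfulSMul (A ⧸ q) (FractionRing (Y.E ⧸ P)) := by
    rw [faithfulSMul_iff_algebraMap_injective,
      IsScalarTower.algebraMap_eq (A ⧸ q) (Y.E ⧸ P) (FractionRing (Y.E ⧸ P))]
    exact (IsFractionRing.injective (Y.E ⧸ P) (FractionRing (Y.E ⧸ P))).comp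
      (FaithfulSMul.algebraMap_injective (A ⧸ q) (Y.E ⧸ P))
  letI : Algebra (FractionRing (A ⧸ q)) (FractionRing (Y.E ⧸ P)) :=
    FractionRing.liftAlgebra (A ⧸ q) (FractionRing (Y.E ⧸ P))
  haveI : IsScalarTower (A ⧸ q) (FractionRing (A ⧸ q)) (FractionRing (Y.E ⧸ P)) :=
    FractionRing.isScalarTower_liftAlgebra (A ⧸ q) (FractionRing (Y.E ⧸ P))
  haveI : Module.Finite A (Y.E ⧸ P) :=
    Module.Finite.of_surjective (Ideal.Quotient.mkₐ A P).toLinearMap Ideal.Quotient.mk_surjective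
  haveI : Module.Finite (A ⧸ q) (Y.E ⧸ P) := Module.Finite.of_restrictScalars_finite A _ _
  haveI : FiniteDimensional (FractionRing (A ⧸ q)) (FractionRing (Y.E ⧸ P)) :=
    finiteDimensional_fractionRing (A := A ⧸ q) (B := Y.E ⧸ P) _ _
  haveI : Algebra.IsSeparable (FractionRing (A ⧸ q)) (FractionRing (Y.E ⧸ P)) := by
    haveI : Algebra.FormallyUnramified A (Y.E ⧸ P) :=
      Algebra.FormallyUnramified.of_surjective (Ideal.Quotient.mkₐ A P)
        Ideal.Quotient.mk_surjective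
    haveI : Algebra.FormallyUnramified (Y.E ⧸ P) (FractionRing (Y.E ⧸ P)) :=
      Algebra.FormallyUnramified.of_isLocalization (nonZeroDivisors (Y.E ⧸ P))
    haveI : Algebra.FormallyUnramified A (FractionRing (Y.E ⧸ P)) :=
      Algebra.FormallyUnramified.comp A (Y.E ⧸ P) _
    haveI : IsScalarTower A (FractionRing (A ⧸ q)) (FractionRing (Y.E ⧸ P)) := by
      apply IsScalarTower.of_algebraMap_eq
      intro a
      rw [IsScalarTower.algebraMap_apply A (A ⧸ q) (FractionRing (A ⧸ q)),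
        ← IsScalarTower.algebraMap_apply (A ⧸ q) (FractionRing (A ⧸ q)) (FractionRing (Y.E ⧸ P)),
        IsScalarTower.algebraMap_apply (A ⧸ q) (Y.E ⧸ P) (FractionRing (Y.E ⧸ P)),
        IsScalarTower.algebraMap_apply A (Y.E ⧸ P) (FractionRing (Y.E ⧸ P))]
      rfl
    haveI : Algebra.FormallyUnramified (FractionRing (A ⧸ q)) (FractionRing (Y.E ⧸ P)) :=
      Algebra.FormallyUnramified.of_restrictScalars A _ _
    exact Algebra.FormallyUnramified.isSeparable _ _
  -- the embedding into the big fraction field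
  have hPQ : P ≤ Q.comap (algebraMap Y.E S) := hP.le
  let j : Y.E ⧸ P →+* S ⧸ Q := Ideal.quotientMap Q (algebraMap Y.E S) hPQ
  have hj : Function.Injective j := Ideal.quotientMap_injective' hP.ge
  have hinj : Function.Injective ((algebraMap (S ⧸ Q) (FractionRing (S ⧸ Q))).comp j) :=
    (IsFractionRing.injective _ _).comp hj
  let ι : FractionRing (Y.E ⧸ P) →+* FractionRing (S ⧸ Q) := IsFractionRing.lift hinj
  have hι : ∀ b : Y.E, ι (algebraMap (Y.E ⧸ P) _ (Ideal.Quotient.mk P b)) =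
      algebraMap (S ⧸ Q) _ (Ideal.Quotient.mk Q (b : S)) :=
    fun b => IsFractionRing.lift_algebraMap hinj _
  have hιK : ∀ k : FractionRing (A ⧸ q),
      algebraMap (FractionRing (A ⧸ q)) (FractionRing (Y.E ⧸ P)) k ∈ Λ.comap ι := by
    intro k
    rw [Subfield.mem_comap]
    obtain ⟨a, a', ha', rfl⟩ := IsFractionRing.div_surjective (A := A ⧸ q) k
    obtain ⟨a, rfl⟩ := Ideal.Quotient.mk_surjective a
    obtain ⟨a', rfl⟩ := Ideal.Quotient.mk_surjective a'
    rw [map_div₀, map_div₀]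
    have key : ∀ a : A, ι (algebraMap (FractionRing (A ⧸ q)) (FractionRing (Y.E ⧸ P))
        (algebraMap (A ⧸ q) _ (Ideal.Quotient.mk q a))) =
        algebraMap A (FractionRing (S ⧸ Q)) a := by
      intro a
      rw [← IsScalarTower.algebraMap_apply (A ⧸ q) (FractionRing (A ⧸ q))
        (FractionRing (Y.E ⧸ P)),
        IsScalarTower.algebraMap_apply (A ⧸ q) (Y.E ⧸ P) (FractionRing (Y.E ⧸ P)),
        Ideal.Quotient.algebraMap_mk_of_liesOver, hι,
        IsScalarTower.algebraMap_apply A (S ⧸ Q) (FractionRing (S ⧸ Q))]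
      rfl
    rw [key, key]
    exact Λ.div_mem (hΛ a) (hΛ a')
  let M : IntermediateField (FractionRing (A ⧸ q)) (FractionRing (Y.E ⧸ P)) :=
    (Λ.comap ι).toIntermediateField hιK
  have hM : ∀ b : Y.E, algebraMap (Y.E ⧸ P) (FractionRing (Y.E ⧸ P)) (Ideal.Quotient.mk P b) ∈ M ↔
      algebraMap (S ⧸ Q) (FractionRing (S ⧸ Q)) (Ideal.Quotient.mk Q (b : S)) ∈ Λ := fun b => by
    rw [← hι]
    rfl
  let H : Subgroup (Y.E ≃ₐ[A] Y.E) :=
    (M.fixingSubgroup.comap (IsFractionRing.stabilizerHom (Y.E ≃ₐ[A] Y.E) q P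
      (FractionRing (A ⧸ q)) (FractionRing (Y.E ⧸ P)))).map
      (MulAction.stabilizer (Y.E ≃ₐ[A] Y.E) P).subtype
  obtain ⟨X, hle, hX, hXH⟩ := exists_fixed' Y H
  refine ⟨X, hle, ?_, ?_⟩
  · intro x hx
    have hxY : x ∈ Y.E := hle hx
    rw [← hM ⟨x, hxY⟩, mem_intermediateField_iff (Y.E ≃ₐ[A] Y.E) q P _ _ M]
    intro g hg
    have hgH : g.1 ∈ H := ⟨g, hg, rfl⟩
    have h1 := (hX ⟨x, hxY⟩).mp hx g.1 hgH
    rw [AlgEquiv.smul_def, h1, sub_self]
    exact P.zero_mem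
  · intro y hy hyΛ
    have h1 := (hM ⟨y, hy⟩).mpr hyΛ
    rw [mem_intermediateField_iff (Y.E ≃ₐ[A] Y.E) q P _ _ M] at h1
    obtain ⟨c, hc⟩ := exists_sub_mem_of_fixed X Y hle P ⟨y, hy⟩ (fun σ hσ => by
      obtain ⟨g, hg, rfl⟩ := hXH σ hσ
      exact h1 g hg)
    refine ⟨c, c.2, ?_⟩
    rw [hP, Ideal.mem_comap, map_sub] at hc
    rw [← sub_eq_zero, ← map_sub]
    exact Ideal.Quotient.eq_zero_iff_mem.mpr hc

end Core40

section Main40

variable (A S : Type u) [CommRing A] [HenselianLocalRing A] [IsNoetherianRing A]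
  [CommRing S] [IsLocalRing S] [Algebra A S] [IsLocalHom (algebraMap A S)]
  [hS : Hensel.IsStrictHenselization A S]

include hS in
theorem main40 (Q : Ideal S) (hQ : Q ∈ minimalPrimes S) [Q.IsPrime]
    (t : Finset (FractionRing (S ⧸ Q))) :
    ∃ D' : Subalgebra A (S ⧸ Q),
      (D' : Set (S ⧸ Q)) = (algebraMap (S ⧸ Q) (FractionRing (S ⧸ Q))) ⁻¹'
        (Subfield.closure (Set.range (algebraMap A (FractionRing (S ⧸ Q))) ∪
          (t : Set (FractionRing (S ⧸ Q)))) : Set (FractionRing (S ⧸ Q))) ∧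
      Module.Finite A D' ∧ Algebra.FormallyUnramified A D' := by
  classical
  obtain ⟨E, hEloc, hEess, -, hE⟩ := main46 A S Q hQ t
  obtain ⟨Λ, hΛ⟩ : ∃ Λ : Subfield (FractionRing (S ⧸ Q)),
    Λ = Subfield.closure (Set.range (algebraMap A (FractionRing (S ⧸ Q))) ∪
          (t : Set (FractionRing (S ⧸ Q)))) := ⟨_, rfl⟩
  rw [← hΛ] at hE ⊢
  obtain ⟨Y, hXY, hnorm⟩ := exists_normal_ge A S ⟨E, hEess⟩
  haveI := hnorm
  have hAΛ : ∀ a : A, algebraMap A (FractionRing (S ⧸ Q)) a ∈ Λ := fun a => by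
    rw [hΛ]; exact Subfield.subset_closure (Or.inl ⟨a, rfl⟩)
  obtain ⟨X, hle, hX1, hX2⟩ := core40 A S Y Q Λ hAΛ
  -- the quotient map restricted to `X.E`
  let φ : X.E →ₐ[A] S ⧸ Q := (Ideal.Quotient.mkₐ A Q).comp X.E.val
  have hφ : ∀ x : X.E, φ x = Ideal.Quotient.mk Q (x : S) := fun x => rfl
  have hmem : ∀ z : S ⧸ Q, z ∈ φ.range ↔
      algebraMap (S ⧸ Q) (FractionRing (S ⧸ Q)) z ∈ Λ := by
    intro z
    constructor
    · rintro ⟨x, rfl⟩
      exact hX1 x x.2
    · intro hz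
      obtain ⟨x, rfl⟩ := Ideal.Quotient.mk_surjective z
      obtain ⟨e, heE, hex⟩ := hE x hz
      have heY : e ∈ Y.E := hXY heE
      obtain ⟨c, hc, hce⟩ := hX2 e heY (by rw [hex]; exact hz)
      exact ⟨⟨c, hc⟩, (hφ ⟨c, hc⟩).trans (hce.trans hex)⟩
  haveI := X.finite
  haveI := X.etale
  refine ⟨φ.range, ?_, ?_, ?_⟩
  · ext z
    exact hmem z
  · exact Module.Finite.of_surjective φ.rangeRestrict.toLinearMap φ.rangeRestrict_surjective
  · exact Algebra.FormallyUnramified.of_surjective φ.rangeRestrict φ.rangeRestrict_surjective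

end Main40

end Groth.Agent.H8.EssEt
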