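import Mathlib

/-!
# The inverse of a unit is a polynomial in the unit when it is integral (helper8)
-/

open Polynomial

namespace Groth.Agent.H8.EssEt

/-- If `x * z = 1` and `z` is integral over `R`, then `z ∈ R[x]`. -/
theorem mem_adjoin_of_mul_eq_one_of_isIntegral {R T : Type*} [CommRing R] [CommRing T]
    [Algebra R T] {x z : T} (hxz : x * z = 1) (hz : IsIntegral R z) :
    z ∈ Algebra.adjoin R {x} := by
  obtain ⟨p, hp, hpz⟩ := hz
  letI : Invertible z := ⟨x, hxz, by rw [mul_comm]; exact hxz⟩
  have hinv : ⅟z = x := rfl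
  have h1 := eval₂_reverse_mul_pow (algebraMap R T) z p
  rw [hpz, hinv] at h1
  have hu : IsUnit (z ^ p.natDegree) := (isUnit_of_invertible z).pow _
  have h2 : eval₂ (algebraMap R T) x (reverse p) = 0 := by
    rw [← hu.mul_left_inj, zero_mul]  -- check direction
    exact h1
  have h3 : reverse p = divX (reverse p) * X + C 1 := by
    rw [← hp.leadingCoeff, ← coeff_zero_reverse, divX_mul_X_add]
  rw [h3, eval₂_add, eval₂_mul, eval₂_X, eval₂_C, map_one] at h2
  have h4 : z = - eval₂ (algebraMap R T) x (divX (reverse p)) := by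
    have : z * (eval₂ (algebraMap R T) x (divX (reverse p)) * x + 1) = 0 := by rw [h2, mul_zero]
    have h5 : z * (eval₂ (algebraMap R T) x (divX (reverse p)) * x + 1) =
        eval₂ (algebraMap R T) x (divX (reverse p)) * (x * z) + z := by ring
    rw [h5, hxz, mul_one] at this
    exact eq_neg_of_add_eq_zero_right this
  rw [h4]
  refine Subalgebra.neg_mem _ ?_
  rw [← aeval_def]
  exact aeval_mem_adjoin_singleton R x

end Groth.Agent.H8.EssEt
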