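import Mathlib
import Groth.Agent.Lib.Helper8.EssEt.TotFracE
import Groth.Agent.Lib.Helper8.EssEt.InvInt

/-!
# Intermediate rings between total rings of fractions (helper8)
-/

universe u
open scoped nonZeroDivisors

namespace Groth.Agent.H8.EssEt

section Main43

variable (A E : Type u) [CommRing A] [CommRing E] [Algebra A E]

/-- Hypotheses: `K_E` is the localization of `E` at the non-zero-divisors of `A` and is finite up
to denominators. An `A`-subalgebra `L` of `K_E` containing the inverses of the non-zero-divisors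
of `A` is closed under inverses of units of `K_E`. -/
theorem mem_of_mul_eq_one
    (hfin : ∃ t : Finset (FractionRing E), ∀ x : FractionRing E, ∃ a ∈ A⁰,
      algebraMap A (FractionRing E) a * x ∈ Submodule.span A (t : Set (FractionRing E)))
    (L : Subalgebra A (FractionRing E))
    (hL : ∀ s ∈ A⁰, ∃ y ∈ L, algebraMap A (FractionRing E) s * y = 1)
    {x z : FractionRing E} (hx : x ∈ L) (hxz : x * z = 1) : z ∈ L := by
  classical
  obtain ⟨t, ht⟩ := hfin
  haveI : Module.Finite L (FractionRing E) := by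
    refine ⟨⟨t, ?_⟩⟩
    rw [eq_top_iff]
    intro w _
    obtain ⟨a, ha, haw⟩ := ht w
    obtain ⟨y, hy, hay⟩ := hL a ha
    have h1 : algebraMap A (FractionRing E) a * w ∈
        Submodule.span L (t : Set (FractionRing E)) :=
      Submodule.span_le_restrictScalars A L _ haw
    have h2 : w = (⟨y, hy⟩ : L) • (algebraMap A (FractionRing E) a * w) := by
      rw [Subalgebra.smul_def, smul_eq_mul, ← mul_assoc, mul_comm y, hay, one_mul]
    rw [h2]
    exact Submodule.smul_mem _ _ h1
  have hint : IsIntegral L z := Algebra.IsIntegral.isIntegral z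
  have h1 := mem_adjoin_of_mul_eq_one_of_isIntegral hxz hint
  have h2 : Algebra.adjoin L {x} ≤ (⊥ : Subalgebra L (FractionRing E)) := by
    rw [Algebra.adjoin_le_iff, Set.singleton_subset_iff]
    exact Algebra.mem_bot.mpr ⟨⟨x, hx⟩, rfl⟩
  obtain ⟨l, rfl⟩ := Algebra.mem_bot.mp (h2 h1)
  exact l.2

theorem exists_subalgebra_inter [IsLocalRing E]
    (hloc : IsLocalization (Algebra.algebraMapSubmonoid E A⁰) (FractionRing E))
    (hfin : ∃ t : Finset (FractionRing E), ∀ x : FractionRing E, ∃ a ∈ A⁰,
      algebraMap A (FractionRing E) a * x ∈ Submodule.span A (t : Set (FractionRing E)))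
    (L : Subalgebra A (FractionRing E))
    (hL : ∀ s ∈ A⁰, ∃ y ∈ L, algebraMap A (FractionRing E) s * y = 1) :
    ∃ D : Subalgebra A E, (D : Set E) = (algebraMap E (FractionRing E)) ⁻¹'
        (L : Set (FractionRing E)) ∧
      ∃ _ : IsLocalRing D, IsLocalHom (algebraMap D E) ∧
        ∀ l ∈ L, ∃ d ∈ D, ∃ s ∈ A⁰, ∃ y ∈ L,
          algebraMap A (FractionRing E) s * y = 1 ∧ l = algebraMap E (FractionRing E) d * y := by
  classical
  let D : Subalgebra A E := L.comap (IsScalarTower.toAlgHom A E (FractionRing E))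
  have hD : ∀ e : E, e ∈ D ↔ algebraMap E (FractionRing E) e ∈ L := fun e => Iff.rfl
  have hlocal : IsLocalHom (algebraMap D E) := by
    constructor
    intro d hd
    obtain ⟨e, hde⟩ := hd.exists_right_inv
    have h1 : algebraMap E (FractionRing E) (d : E) * algebraMap E (FractionRing E) e = 1 := by
      rw [← map_mul]
      have : (algebraMap D E d) * e = 1 := hde
      rw [show ((d : E) * e) = 1 from this, map_one]
    have h2 : e ∈ D := (hD e).mpr (mem_of_mul_eq_one A E hfin L hL ((hD d).mp d.2) h1)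
    exact IsUnit.of_mul_eq_one ⟨e, h2⟩ (Subtype.ext hde)
  haveI := hlocal
  have hDloc : IsLocalRing D := RingHom.domain_isLocalRing (algebraMap D E)
  refine ⟨D, rfl, hDloc, hlocal, ?_⟩
  intro l hl
  obtain ⟨⟨e, m⟩, hm⟩ := IsLocalization.surj (Algebra.algebraMapSubmonoid E A⁰) l
  obtain ⟨s, hs, hsm⟩ := m.2
  obtain ⟨y, hy, hsy⟩ := hL s hs
  have h1 : algebraMap E (FractionRing E) (m : E) = algebraMap A (FractionRing E) s := by
    rw [← hsm, ← IsScalarTower.algebraMap_apply]
  rw [h1] at hm
  have he : e ∈ D := by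
    rw [hD, ← hm]
    exact L.mul_mem hl (L.algebraMap_mem s)
  refine ⟨e, he, s, hs, y, hy, hsy, ?_⟩
  rw [← hm, mul_assoc, hsy, mul_one]

end Main43

end Groth.Agent.H8.EssEt
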