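import Mathlib
import Groth.Agent.H4.SmRed
import Groth.Prelude.Def_EssEt

set_option autoImplicit false

universe u

namespace Groth.Agent.H8.EssEt

open TensorProduct

/-- Étale base change preserves reducedness of `K ⊗[k] -`. -/
theorem isReduced_tensor_of_etale (k K A C : Type u) [Field k] [Field K] [Algebra k K]
    [CommRing A] [Algebra k A] [CommRing C] [Algebra A C] [Algebra k C] [IsScalarTower k A C]
    [Algebra.Etale A C] [IsReduced (K ⊗[k] A)] : IsReduced (C ⊗[k] K) := by
  haveI h1 : IsReduced (A ⊗[k] K) :=
    isReduced_of_injective (Algebra.TensorProduct.comm k A K).toRingEquiv.toRingHom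
      (Algebra.TensorProduct.comm k A K).injective
  haveI h2 : IsReduced ((A ⊗[k] K) ⊗[A] C) :=
    Groth.Agent.H4.SmRed.isReduced_of_smooth (A ⊗[k] K) ((A ⊗[k] K) ⊗[A] C)
  haveI h3 : IsReduced (C ⊗[A] (A ⊗[k] K)) :=
    isReduced_of_injective (Algebra.TensorProduct.comm A C (A ⊗[k] K)).toRingEquiv.toRingHom
      (Algebra.TensorProduct.comm A C (A ⊗[k] K)).injective
  exact isReduced_of_injective
    (Algebra.TensorProduct.cancelBaseChange k A C C K).symm.toRingEquiv.toRingHom
    (Algebra.TensorProduct.cancelBaseChange k A C C K).symm.injective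


/-- Essentially étale base change preserves reducedness of `K ⊗[k] -`. -/
theorem isReduced_tensor_of_essEtale (k K A E : Type u) [Field k] [Field K] [Algebra k K]
    [CommRing A] [IsLocalRing A] [Algebra k A] [CommRing E] [Algebra A E] [Algebra k E]
    [IsScalarTower k A E]
    (hE : EGA4loc.IsEssentiallyEtale A E) [IsReduced (K ⊗[k] A)] : IsReduced (K ⊗[k] E) := by
  obtain ⟨C, _, _, q, _, hC, -, ⟨e⟩⟩ := hE
  letI : Algebra k C := ((algebraMap A C).comp (algebraMap k A)).toAlgebra
  haveI : IsScalarTower k A C := IsScalarTower.of_algebraMap_eq fun x => rfl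
  haveI hT : IsReduced (C ⊗[k] K) := isReduced_tensor_of_etale k K A C
  haveI hloc : IsLocalization (Algebra.algebraMapSubmonoid (C ⊗[k] K) q.primeCompl)
      ((C ⊗[k] K) ⊗[C] Localization.AtPrime q) := IsLocalization.tensor _ q.primeCompl
  haveI h1 : IsReduced ((C ⊗[k] K) ⊗[C] Localization.AtPrime q) :=
    isReduced_localizationPreserves (Algebra.algebraMapSubmonoid (C ⊗[k] K) q.primeCompl) _ hT
  haveI h2 : IsReduced (Localization.AtPrime q ⊗[C] (C ⊗[k] K)) :=
    isReduced_of_injective
      (Algebra.TensorProduct.comm C (Localization.AtPrime q) (C ⊗[k] K)).toRingEquiv.toRingHom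
      (Algebra.TensorProduct.comm C (Localization.AtPrime q) (C ⊗[k] K)).injective
  haveI h3 : IsReduced (Localization.AtPrime q ⊗[k] K) :=
    isReduced_of_injective
      (Algebra.TensorProduct.cancelBaseChange k C (Localization.AtPrime q)
        (Localization.AtPrime q) K).symm.toRingEquiv.toRingHom
      (Algebra.TensorProduct.cancelBaseChange k C (Localization.AtPrime q)
        (Localization.AtPrime q) K).symm.injective
  haveI h4 : IsReduced (K ⊗[k] Localization.AtPrime q) :=
    isReduced_of_injective
      (Algebra.TensorProduct.comm k K (Localization.AtPrime q)).toRingEquiv.toRingHom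
      (Algebra.TensorProduct.comm k K (Localization.AtPrime q)).injective
  let e' : E ≃ₐ[k] Localization.AtPrime q := e.restrictScalars k
  exact isReduced_of_injective
    (Algebra.TensorProduct.congr (AlgEquiv.refl : K ≃ₐ[k] K) e').toRingEquiv.toRingHom
    (Algebra.TensorProduct.congr (AlgEquiv.refl : K ≃ₐ[k] K) e').injective

end Groth.Agent.H8.EssEt
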